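import Groth.Agent.ConeLib.Imm

/-!
# An algebra placed in degree zero
-/

set_option autoImplicit false
set_option linter.style.haveILetI false
set_option linter.unusedSectionVars false
set_option backward.isDefEq.respectTransparency false
set_option backward.isDefEq.respectTransparency.types false

universe u

open CategoryTheory CategoryTheory.Limits AlgebraicGeometry TopologicalSpace Opposite

noncomputable section

namespace Groth.Agent.ConeLib

open Groth.Agent

variable {A : Type u} [CommRing A]

/-- `A` in degree zero -/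
def inDegZero (A : Type u) [CommRing A] (n : ℕ) : AddSubgroup A := if n = 0 then ⊤ else ⊥

lemma mem_inDegZero {n : ℕ} {a : A} : a ∈ inDegZero A n ↔ n = 0 ∨ a = 0 := by
  unfold inDegZero; split_ifs with h <;> simp [h]

instance inDegZero_gradedMonoid : SetLike.GradedMonoid (inDegZero A) where
  one_mem := mem_inDegZero.2 (Or.inl rfl)
  mul_mem {i j a b} ha hb := by
    rcases mem_inDegZero.1 ha with rfl | rfl
    · rcases mem_inDegZero.1 hb with rfl | rfl
      · exact mem_inDegZero.2 (Or.inl rfl)
      · exact mem_inDegZero.2 (Or.inr (mul_zero _))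
    · exact mem_inDegZero.2 (Or.inr (zero_mul _))

instance inDegZero_decomposition : DirectSum.Decomposition (inDegZero A) where
  decompose' a := DirectSum.of (fun n => inDegZero A n) 0 ⟨a, mem_inDegZero.2 (Or.inl rfl)⟩
  left_inv a := by rw [DirectSum.coeAddMonoidHom_of]
  right_inv x := by
    induction x using DirectSum.induction_on with
    | zero => simp only [map_zero]; exact map_zero (DirectSum.of (fun n => inDegZero A n) 0)
    | of i a =>
      rw [DirectSum.coeAddMonoidHom_of]
      rcases mem_inDegZero.1 a.2 with rfl | h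
      · rfl
      · have ha : a = 0 := Subtype.ext h
        subst ha
        rw [map_zero]
        exact map_zero (DirectSum.of (fun n => inDegZero A n) 0)
    | add x y hx hy =>
      rw [map_add]
      conv_rhs => rw [← hx, ← hy]
      exact map_add (DirectSum.of (fun n => inDegZero A n) 0) ⟨_, mem_inDegZero.2 (Or.inl rfl)⟩
        ⟨_, mem_inDegZero.2 (Or.inl rfl)⟩

instance inDegZero_gradedRing : GradedRing (inDegZero A) :=
  { inDegZero_gradedMonoid, inDegZero_decomposition with }

/-- a quasi-coherent algebra in degree zero -/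
abbrev degZeroGrAlg {Y : Scheme.{u}} (𝒜 : RelSpec.QCAlg Y) : RelProj.QCGrAlg Y where
  toQCAlg := 𝒜
  deg U _ := inDegZero (𝒜.presheaf.obj (op U))
  graded U _ := inDegZero_gradedRing
  map_mem {U V} _ _ _ {d x} hx := by
    rcases mem_inDegZero.1 hx with rfl | rfl
    · exact mem_inDegZero.2 (Or.inl rfl)
    · exact mem_inDegZero.2 (Or.inr (map_zero _))
  str_mem U _ r := mem_inDegZero.2 (Or.inl rfl)

theorem basicOpen_z_eq_top {σ : Type u} {B τ : Type u} [SetLike σ A] [AddSubgroupClass σ A] {𝒜 : ℕ → σ}
    [GradedRing 𝒜] [CommRing B] [SetLike τ B] [AddSubgroupClass τ B] {ℬ : ℕ → τ} [GradedRing ℬ]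
    {φ : 𝒜 →+*ᵍ ℬ} {z : B} (h : IsPoly φ z) (hdeg : ∀ n, ∀ a ∈ 𝒜 n, n = 0 ∨ a = 0) :
    Proj.basicOpen ℬ z = ⊤ := by
  refine eq_top_iff.2 fun y _ hy => y.not_irrelevant_le ((HomogeneousIdeal.irrelevant_le ℬ).2 fun n hn b hb => ?_)
  obtain ⟨c, hc, rfl⟩ := h.exists_expand hb
  refine Ideal.sum_mem _ fun i hi => ?_
  rcases Nat.eq_zero_or_pos i with rfl | hi0
  · rcases hdeg _ _ (hc 0) with h0 | h0
    · omega
    · rw [h0, map_zero, zero_mul]; exact zero_mem _
  · exact Ideal.mul_mem_left _ _ (Ideal.pow_mem_of_mem _ hy i hi0)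

end Groth.Agent.ConeLib
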