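import Groth.Agent.ConeLib.Ring
import Mathlib.AlgebraicGeometry.IdealSheaf.Basic

/-!
# Charts of the affine piece of the projective cone
-/

set_option autoImplicit false
set_option linter.style.haveILetI false
set_option linter.unusedSectionVars false
set_option backward.isDefEq.respectTransparency false
set_option backward.isDefEq.respectTransparency.types false

universe u

open CategoryTheory CategoryTheory.Limits AlgebraicGeometry TopologicalSpace HomogeneousLocalization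

noncomputable section

namespace Groth.Agent.ConeLib

variable {A σ : Type u} [CommRing A] [SetLike σ A] [AddSubgroupClass σ A] {𝒜 : ℕ → σ} [GradedRing 𝒜]
variable {B τ : Type u} [CommRing B] [SetLike τ B] [AddSubgroupClass τ B] {ℬ : ℕ → τ} [GradedRing ℬ]

/-- `B₍x₎ → C` from `χ : B → C` inverting `x`. -/
def awayHom {C : Type u} [CommRing C] (χ : B →+* C) (x : B) (hx : IsUnit (χ x)) : Away ℬ x →+* C :=
  (IsLocalization.Away.lift x hx).comp (algebraMap (Away ℬ x) (Localization.Away x))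

lemma awayHom_mk {C : Type u} [CommRing C] (χ : B →+* C) {x : B} {d : ℕ} (hd : x ∈ ℬ d) (hx : IsUnit (χ x))
    (n : ℕ) (b : B) (hb : b ∈ ℬ (n • d)) :
    awayHom χ x hx (Away.mk ℬ hd n b hb) * χ x ^ n = χ b := by
  rw [awayHom, RingHom.comp_apply, HomogeneousLocalization.algebraMap_apply, Away.val_mk,
    Localization.mk_eq_mk']
  refine Eq.trans ?_ (IsLocalization.lift_eq (S := Localization.Away x) (M := Submonoid.powers x)
    (g := χ) (fun y => by obtain ⟨_, k, rfl⟩ := y; rw [map_pow]; exact hx.pow k) b)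
  rw [← map_pow χ x n, ← IsLocalization.lift_eq (S := Localization.Away x) (M := Submonoid.powers x)
    (g := χ) (fun y => by obtain ⟨_, k, rfl⟩ := y; rw [map_pow]; exact hx.pow k) (x ^ n), IsLocalization.Away.lift,
    ← map_mul, IsLocalization.mk'_spec]

lemma awayHom_comp_awayMap {C : Type u} [CommRing C] (χ : B →+* C) {f g x : B} {d e : ℕ} (hf : f ∈ ℬ d)
    (hg : g ∈ ℬ e) (hxe : x = f * g) (hx : IsUnit (χ x)) (hfu : IsUnit (χ f)) :
    (awayHom χ x hx).comp (awayMap ℬ hg hxe) = awayHom (ℬ := ℬ) χ f hfu := by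
  subst hxe
  refine RingHom.ext fun q => ?_
  obtain ⟨n, b, hb, rfl⟩ := Away.mk_surjective ℬ hf q
  refine ((hfu.pow n).mul ((isUnit_of_mul_isUnit_right (by rw [← map_mul]; exact hx :
    IsUnit (χ f * χ g))).pow n)).mul_left_inj.1 ?_
  rw [RingHom.comp_apply, awayMap_mk, ← mul_assoc (awayHom χ f hfu _), awayHom_mk χ hf hfu, ← mul_pow, ← map_mul]
  refine (awayHom_mk χ _ hx n _ _).trans ?_
  rw [map_mul, map_pow]

/-- `Spec C ⟶ Proj B`. -/
def chartHom {C : Type u} [CommRing C] (χ : B →+* C) {x : B} {d : ℕ} (hd : x ∈ ℬ d) (hpos : 0 < d)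
    (hx : IsUnit (χ x)) : Spec (CommRingCat.of C) ⟶ Proj ℬ :=
  Spec.map (CommRingCat.ofHom (awayHom χ x hx)) ≫ Proj.awayι ℬ x hd hpos

/-- The morphism does not depend on the inverted element. -/
lemma chartHom_eq {C : Type u} [CommRing C] (χ : B →+* C) {f g : B} {d e : ℕ} (hf : f ∈ ℬ d) (hd : 0 < d)
    (hg : g ∈ ℬ e) (he : 0 < e) (hfu : IsUnit (χ f)) (hgu : IsUnit (χ g)) :
    chartHom χ hf hd hfu = chartHom χ hg he hgu := by
  have hu : IsUnit (χ (f * g)) := by rw [map_mul]; exact hfu.mul hgu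
  have hfg : f * g ∈ ℬ (d + e) := SetLike.mul_mem_graded hf hg
  rw [chartHom, chartHom, ← awayHom_comp_awayMap χ hf hg rfl hu hfu,
    ← awayHom_comp_awayMap χ hg hf (mul_comm f g) hu hgu, CommRingCat.ofHom_comp, CommRingCat.ofHom_comp,
    Spec.map_comp_assoc, Spec.map_comp_assoc, Proj.SpecMap_awayMap_awayι, Proj.SpecMap_awayMap_awayι]
  congr 1

variable {φ : 𝒜 →+*ᵍ ℬ} {z : B} (h : IsPoly φ z)

include h in
lemma IsPoly.preimage_basicOpen {d : ℕ} {g : B} (hd : 0 < d) (hg : g ∈ ℬ d) (Q : PrimeSpectrum A) :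
    h.piece Q ∈ Proj.basicOpen ℬ g ↔ h.ev 1 g ∉ Q.asIdeal := by
  change Spec.map (CommRingCat.ofHom h.awayTo) Q ∈ Proj.awayι ℬ z h.mem one_pos ⁻¹ᵁ Proj.basicOpen ℬ g ↔ _
  refine (SetLike.ext_iff.1 (Proj.awayι_preimage_basicOpen ℬ h.mem one_pos hg hd) _).trans ?_
  change h.awayTo (Away.isLocalizationElem h.mem hg) ∉ Q.asIdeal ↔ _
  rw [Away.isLocalizationElem, IsPoly.awayTo_mk, pow_one]

/-- the homomorphism `B₍g₎ → A_{g(z=1)}` -/
def IsPoly.pieceHom (g : B) : Away ℬ g →+* Localization.Away (h.ev 1 g) :=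
  awayHom ((algebraMap A (Localization.Away (h.ev 1 g))).comp (h.ev 1)) g
    (IsLocalization.Away.algebraMap_isUnit (h.ev 1 g))

/-- the piece on `D(g(z=1))` -/
lemma IsPoly.piece_square {d : ℕ} {g : B} (hd : 0 < d) (hg : g ∈ ℬ d) :
    Spec.map (CommRingCat.ofHom (h.pieceHom g)) ≫ Proj.awayι ℬ g hg hd =
      Spec.map (CommRingCat.ofHom (algebraMap A (Localization.Away (h.ev 1 g)))) ≫ h.piece := by
  let χ : B →+* Localization.Away (h.ev 1 g) := (algebraMap A _).comp (h.ev 1)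
  have hzu : IsUnit (χ z) := by simp [χ]
  have hcomp : (algebraMap A (Localization.Away (h.ev 1 g))).comp h.awayTo = awayHom (ℬ := ℬ) χ z hzu := by
    refine RingHom.ext fun q => ?_
    obtain ⟨n, b, hb, rfl⟩ := Away.mk_surjective ℬ h.mem q
    refine (hzu.pow n).mul_left_inj.1 ?_
    rw [awayHom_mk, RingHom.comp_apply, IsPoly.awayTo_mk]
    simp [χ]
  rw [IsPoly.piece, ← Spec.map_comp_assoc, ← CommRingCat.ofHom_comp, hcomp]
  exact chartHom_eq χ hg hd h.mem one_pos (IsLocalization.Away.algebraMap_isUnit (h.ev 1 g)) hzu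

include h in
lemma IsPoly.pieceHom_injective {d : ℕ} {g : B} (hg : g ∈ ℬ d) : Function.Injective (h.pieceHom g) := by
  rw [injective_iff_map_eq_zero]
  intro q hq
  obtain ⟨n, x, hx, rfl⟩ := Away.mk_surjective ℬ hg q
  have h1 := awayHom_mk (ℬ := ℬ) ((algebraMap A (Localization.Away (h.ev 1 g))).comp (h.ev 1)) hg
    (IsLocalization.Away.algebraMap_isUnit (h.ev 1 g)) n x hx
  change h.pieceHom g (Away.mk ℬ hg n x hx) * _ = _ at h1
  rw [hq, zero_mul, RingHom.comp_apply, eq_comm, IsLocalization.map_eq_zero_iff (Submonoid.powers (h.ev 1 g))] at h1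
  obtain ⟨⟨_, m, rfl⟩, hm⟩ := h1
  have h2 : g ^ m * x = 0 := h.eq_zero_of_ev_one (SetLike.mul_mem_graded (SetLike.pow_mem_graded m hg) hx)
    (by rw [map_mul, map_pow]; exact hm)
  refine val_injective _ ?_
  rw [Away.val_mk, val_zero, Localization.mk_eq_mk', IsLocalization.mk'_eq_zero_iff]
  exact ⟨⟨_, m, rfl⟩, h2⟩

end Groth.Agent.ConeLib
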