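import Groth.Agent.ConeLib.Proj2
import Groth.Agent.PConeLib.Fibre

/-!
# Fibres of the retractions of the pointed cones
-/

set_option autoImplicit false
set_option linter.style.haveILetI false
set_option linter.unusedSectionVars false
set_option backward.isDefEq.respectTransparency false
set_option backward.isDefEq.respectTransparency.types false

universe u

open CategoryTheory CategoryTheory.Limits AlgebraicGeometry TopologicalSpace Opposite HomogeneousLocalization
open scoped TensorProduct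

noncomputable section

namespace Groth.Agent.ConeLib

open Groth.Agent

section ring

variable {A σ : Type u} [CommRing A] [SetLike σ A] [AddSubgroupClass σ A] {𝒜 : ℕ → σ} [GradedRing 𝒜]
variable {B τ : Type u} [CommRing B] [SetLike τ B] [AddSubgroupClass τ B] {ℬ : ℕ → τ} [GradedRing ℬ]

/-- `A₍f₎[T, T⁻¹] ≅ A_f` for `f` of degree one. -/
theorem exists_laurentEquiv {f : A} (hf : f ∈ 𝒜 1) :
    ∃ ψ : LaurentPolynomial (Away 𝒜 f) ≃+* Localization.Away f,
      ∀ c, ψ (LaurentPolynomial.C c) = algebraMap (Away 𝒜 f) (Localization.Away f) c := by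
  classical
  let A0 := Away 𝒜 f
  let u : (Localization.Away f)ˣ := (IsLocalization.Away.algebraMap_isUnit (S := Localization.Away f) f).unit
  let ψ : LaurentPolynomial A0 →+* Localization.Away f :=
    LaurentPolynomial.eval₂ (algebraMap A0 (Localization.Away f)) u
  let hm : ∀ (i : ℕ) (a : 𝒜 i), a.1 ∈ 𝒜 (i • 1) := fun i a => by rw [smul_eq_mul, mul_one]; exact a.2
  let g : ∀ i : ℕ, (𝒜 i) →+ LaurentPolynomial A0 := fun i => AddMonoidHom.mk'
    (fun a => LaurentPolynomial.C (Away.mk 𝒜 hf i a.1 (hm i a)) * LaurentPolynomial.T (i : ℤ))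
    fun a b => by
      rw [← add_mul, ← map_add]
      congr 2
      refine val_injective _ ?_
      rw [val_add, Away.val_mk, Away.val_mk, Away.val_mk, Localization.add_mk_self]
      rfl
  let θ : (DirectSum ℕ fun i => 𝒜 i) →+* LaurentPolynomial A0 :=
    (DirectSum.toSemiring g (by
      change LaurentPolynomial.C (Away.mk 𝒜 hf 0 1 _) * LaurentPolynomial.T ((0 : ℕ) : ℤ) = 1
      rw [Nat.cast_zero, LaurentPolynomial.T_zero, mul_one, ← map_one LaurentPolynomial.C]
      congr 1
      refine val_injective _ ?_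
      rw [Away.val_mk, val_one, ← Localization.mk_one]
      congr 1
      exact Subtype.ext (pow_zero f)) (fun {i j} a b => by
      change LaurentPolynomial.C (Away.mk 𝒜 hf (i + j) (a.1 * b.1) _) * LaurentPolynomial.T ((i + j : ℕ) : ℤ) =
        LaurentPolynomial.C (Away.mk 𝒜 hf i a.1 _) * LaurentPolynomial.T (i : ℤ) *
          (LaurentPolynomial.C (Away.mk 𝒜 hf j b.1 _) * LaurentPolynomial.T (j : ℤ))
      rw [mul_mul_mul_comm, ← map_mul, ← LaurentPolynomial.T_add, Nat.cast_add]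
      congr 2
      refine val_injective _ ?_
      rw [val_mul, Away.val_mk, Away.val_mk, Away.val_mk, Localization.mk_mul]
      congr 1
      exact Subtype.ext (pow_add f i j)))
  let ρ₀ : A →+* LaurentPolynomial A0 := θ.comp (DirectSum.decomposeRingEquiv 𝒜).toRingHom
  have hρ₀ : ∀ (i : ℕ) (a : A) (ha : a ∈ 𝒜 i), ρ₀ a =
      LaurentPolynomial.C (Away.mk 𝒜 hf i a (hm i ⟨a, ha⟩)) * LaurentPolynomial.T (i : ℤ) := fun i a ha => by
    have h1 : (DirectSum.decomposeRingEquiv 𝒜) a = DirectSum.of (fun i => 𝒜 i) i ⟨a, ha⟩ :=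
      DirectSum.decompose_of_mem 𝒜 ha
    change θ ((DirectSum.decomposeRingEquiv 𝒜) a) = _
    rw [h1]
    exact (DirectSum.toSemiring_of g _ _ i ⟨a, ha⟩).trans rfl
  have hf1 : ρ₀ f = LaurentPolynomial.T 1 := by
    rw [hρ₀ 1 f hf, Nat.cast_one]
    have : Away.mk 𝒜 hf 1 f (hm 1 ⟨f, hf⟩) = 1 := by
      refine val_injective _ ?_
      rw [Away.val_mk, val_one, ← Localization.mk_self (⟨f ^ 1, 1, rfl⟩ : Submonoid.powers f)]
      congr 1
      exact (pow_one f).symm
    rw [this, map_one, one_mul]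
  let ρ : Localization.Away f →+* LaurentPolynomial A0 :=
    Localization.awayLift ρ₀ f (by rw [hf1]; exact LaurentPolynomial.isUnit_T 1)
  have hρalg : ∀ a, ρ (algebraMap A (Localization.Away f) a) = ρ₀ a := IsLocalization.lift_eq _
  have hval : ∀ (n : ℕ) (a : A) (ha : a ∈ 𝒜 (n • 1)),
      algebraMap A0 (Localization.Away f) (Away.mk 𝒜 hf n a ha) * algebraMap A (Localization.Away f) (f ^ n) =
        algebraMap A (Localization.Away f) a := fun n a ha => by
    change (Away.mk 𝒜 hf n a ha).val * _ = _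
    rw [Away.val_mk, Localization.mk_eq_mk', IsLocalization.mk'_spec]
  have hψT : ∀ i : ℕ, ψ (LaurentPolynomial.T (i : ℤ)) = algebraMap A (Localization.Away f) (f ^ i) := fun i => by
    simp [ψ, u]
  have hψC : ∀ c : A0, ψ (LaurentPolynomial.C c) = algebraMap A0 (Localization.Away f) c :=
    fun c => LaurentPolynomial.eval₂_C _ _ _
  have h1 : ψ.comp ρ = RingHom.id _ := by
    refine IsLocalization.ringHom_ext (Submonoid.powers f) (RingHom.ext fun a => ?_)
    change ψ (ρ (algebraMap A (Localization.Away f) a)) = algebraMap A (Localization.Away f) a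
    rw [hρalg, ← DirectSum.sum_support_decompose 𝒜 a]
    simp only [map_sum]
    refine Finset.sum_congr rfl fun i _ => ?_
    rw [hρ₀ i _ (SetLike.coe_mem _), map_mul, hψT]
    rw [hψC]
    exact hval i _ _
  have hC : ∀ c : A0, ρ (algebraMap A0 (Localization.Away f) c) = LaurentPolynomial.C c := by
    intro c
    obtain ⟨n, a, ha, rfl⟩ := Away.mk_surjective 𝒜 hf c
    have h := congrArg ρ (hval n a ha)
    rw [map_mul, hρalg, hρalg, map_pow, hf1, LaurentPolynomial.T_pow, mul_one,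
      hρ₀ n a (by rwa [smul_eq_mul, mul_one] at ha)] at h
    exact (LaurentPolynomial.isUnit_T (n : ℤ)).mul_left_inj.1 h
  have h2 : ρ.comp ψ = RingHom.id _ := by
    refine RingHom.ext fun p => ?_
    induction p using LaurentPolynomial.induction_on' with
    | add p q hp hq => simp only [map_add, hp, hq]
    | C_mul_T n c =>
      change ρ (ψ _) = _
      rw [map_mul ψ, map_mul ρ]
      rw [hψC, hC, RingHom.id_apply]
      congr 1
      rcases Int.eq_nat_or_neg n with ⟨k, rfl | rfl⟩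
      · rw [hψT, hρalg, map_pow, hf1, LaurentPolynomial.T_pow, mul_one]
      · refine (LaurentPolynomial.isUnit_T (k : ℤ)).mul_left_inj.1 ?_
        have e : ρ (ψ (LaurentPolynomial.T (k : ℤ))) = LaurentPolynomial.T (k : ℤ) := by
          rw [hψT, hρalg, map_pow, hf1, LaurentPolynomial.T_pow, mul_one]
        conv_lhs => rw [← e]
        rw [← map_mul ρ, ← map_mul ψ, ← LaurentPolynomial.T_add, neg_add_cancel, LaurentPolynomial.T_zero,
          map_one, map_one]
  exact ⟨RingEquiv.ofRingHom ψ ρ h1 h2, hψC⟩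

/-- `A₍f₎[T] ≅ A[z]₍f₎` for `f` of degree one. -/
theorem exists_polyEquiv {φ : 𝒜 →+*ᵍ ℬ} {z : B} (h : IsPoly φ z) {f : A} (hf : f ∈ 𝒜 1) :
    ∃ ψ : Polynomial (Away 𝒜 f) ≃+* Away ℬ (φ f), ∀ c, ψ (Polynomial.C c) = Away.map φ f c := by
  classical
  let A0 := Away 𝒜 f
  let A0' := Away ℬ (φ f)
  have hz : z ∈ ℬ 1 := h.mem
  have hfB : φ f ∈ ℬ 1 := φ.2 hf
  let X' : A0' := Away.mk ℬ hfB 1 z (by rwa [one_smul])
  let ψ : Polynomial A0 →+* A0' := Polynomial.eval₂RingHom (Away.map φ f) X'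
  have hψC : ∀ c, ψ (Polynomial.C c) = Away.map φ f c := fun c => Polynomial.eval₂_C _ _
  let e := h.equiv
  let ch : B →+* Polynomial (Localization.Away f) :=
    (Polynomial.mapRingHom (algebraMap A (Localization.Away f))).comp e.symm.toRingHom
  have hchA : ∀ a, ch (φ a) = Polynomial.C (algebraMap A (Localization.Away f) a) := fun a => by
    change Polynomial.map _ (e.symm (φ a)) = _
    rw [h.symm_apply, Polynomial.map_C]
  have hchz : ch z = Polynomial.X := by
    change Polynomial.map _ (e.symm z) = _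
    have : e.symm z = Polynomial.X := h.symm_z
    rw [this, Polynomial.map_X]
  have huf : IsUnit (ch (φ f)) := by
    rw [hchA]; exact (IsLocalization.Away.algebraMap_isUnit f).map Polynomial.C
  let χ₀ : Localization.Away (φ f) →+* Polynomial (Localization.Away f) := Localization.awayLift ch (φ f) huf
  let χ : A0' →+* Polynomial (Localization.Away f) := χ₀.comp (algebraMap A0' (Localization.Away (φ f)))
  have hχ : ∀ (n : ℕ) (b : B) (hb : b ∈ ℬ (n • 1)),
      χ (Away.mk ℬ hfB n b hb) * Polynomial.C (algebraMap A (Localization.Away f) (f ^ n)) = ch b := fun n b hb => by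
    rw [← hchA, map_pow φ]
    change χ₀ (Away.mk ℬ hfB n b hb).val * _ = _
    rw [Away.val_mk]
    have hl : ∀ y : B, χ₀ (algebraMap B (Localization.Away (φ f)) y) = ch y := fun y => IsLocalization.lift_eq _ _
    rw [← hl, ← map_mul, Localization.mk_eq_mk', IsLocalization.mk'_spec, hl]
  have hu : ∀ n : ℕ, IsUnit (algebraMap A (Localization.Away f) (f ^ n)) := fun n => by
    rw [map_pow]; exact (IsLocalization.Away.algebraMap_isUnit f).pow n
  have hχC : ∀ c : A0, χ (Away.map φ f c) = Polynomial.C c.val := fun c => by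
    obtain ⟨n, a, ha, rfl⟩ := Away.mk_surjective 𝒜 hf c
    refine ((hu n).map Polynomial.C).mul_left_inj.1 ?_
    rw [Away.map_mk]
    refine (hχ n (φ a) _).trans ?_
    rw [hchA, ← map_mul, Away.val_mk, Localization.mk_eq_mk', IsLocalization.mk'_spec]
  let w : (Localization.Away f)ˣ := (hu 1).unit⁻¹
  have hχX : χ X' = Polynomial.C (w : Localization.Away f) * Polynomial.X := by
    refine ((hu 1).map Polynomial.C).mul_left_inj.1 ?_
    rw [hχ, hchz, mul_comm, ← mul_assoc, ← map_mul]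
    rw [show algebraMap A (Localization.Away f) (f ^ 1) * (w : Localization.Away f) = 1 from (hu 1).mul_val_inv,
      map_one, one_mul]
  have hcoef : ∀ (p : Polynomial A0) (k : ℕ),
      (χ (ψ p)).coeff k = (p.coeff k).val * (w : Localization.Away f) ^ k := by
    intro p k
    induction p using Polynomial.induction_on' with
    | add p q hp hq => rw [map_add, map_add, Polynomial.coeff_add, hp, hq, Polynomial.coeff_add, val_add, add_mul]
    | monomial m c =>
      rw [← Polynomial.C_mul_X_pow_eq_monomial, map_mul ψ, map_pow ψ, hψC, map_mul χ, map_pow χ, hχC,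
        show ψ Polynomial.X = X' from Polynomial.eval₂_X _ _, hχX, mul_pow, ← map_pow, ← mul_assoc, ← map_mul,
        Polynomial.coeff_C_mul_X_pow, Polynomial.coeff_C_mul_X_pow]
      split_ifs with h
      · subst h; rfl
      · rw [val_zero, zero_mul]
  refine ⟨RingEquiv.ofBijective ψ ⟨(injective_iff_map_eq_zero ψ).2 fun p hp => Polynomial.ext fun k => ?_,
    fun x => ?_⟩, hψC⟩
  · have h0 := hcoef p k
    rw [hp, map_zero, Polynomial.coeff_zero] at h0
    refine val_injective _ ?_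
    rw [Polynomial.coeff_zero, val_zero]
    exact (w ^ k).isUnit.mul_left_eq_zero.1 (by rw [Units.val_pow_eq_pow_val]; exact h0.symm)
  · obtain ⟨n, b, hb, rfl⟩ := Away.mk_surjective ℬ hfB x
    obtain ⟨P, hP⟩ := h.bij.2 b
    have hb' : b ∈ ℬ n := by rwa [smul_eq_mul, mul_one] at hb
    let c : ℕ → A := fun i => if i ≤ n then (DirectSum.decompose 𝒜 (P.coeff i) (n - i) : A) else 0
    have hc : ∀ i, c i ∈ 𝒜 (n - i) := fun i => by
      by_cases hin' : i ≤ n
      · simp only [c, if_pos hin']; exact SetLike.coe_mem _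
      · simp only [c, if_neg hin']; exact zero_mem _
    have hzi : ∀ i, z ^ i ∈ ℬ i := fun i => by simpa using SetLike.pow_mem_graded i hz
    have hpiece : ∀ i, (DirectSum.decompose ℬ (φ (P.coeff i) * z ^ i) n : B) = φ (c i) * z ^ i := by
      intro i
      rw [DirectSum.coe_decompose_mul_of_right_mem (𝒜 := ℬ) n (hzi i)]
      by_cases hin' : i ≤ n
      · rw [if_pos hin']
        simp only [c, if_pos hin']
        rw [GradedRingHom.map_directSumDecompose 𝒜 ℬ φ]
      · rw [if_neg hin']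
        simp [c, if_neg hin']
    have hbsum : b = ∑ i ∈ Finset.range (P.natDegree + 1), φ (c i) * z ^ i := by
      conv_lhs => rw [← DirectSum.decompose_of_mem_same ℬ hb', ← hP, Polynomial.coe_eval₂RingHom, Polynomial.eval₂_eq_sum_range,
        DirectSum.decompose_sum, DFinsupp.finsetSum_apply, AddSubmonoidClass.coe_finsetSum]
      exact Finset.sum_congr rfl fun i _ => hpiece i
    refine ⟨∑ i ∈ Finset.range (P.natDegree + 1),
      Polynomial.C (Away.mk 𝒜 hf (n - i) (c i) (by rw [smul_eq_mul, mul_one]; exact hc i)) * Polynomial.X ^ i, ?_⟩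
    refine val_injective _ ?_
    change algebraMap A0' (Localization.Away (φ f)) (ψ _) = (Away.mk ℬ hfB n b hb).val
    rw [map_sum, map_sum, Away.val_mk, Localization.mk_eq_mk', eq_comm, IsLocalization.mk'_eq_iff_eq_mul, Finset.sum_mul,
      hbsum, map_sum]
    refine Finset.sum_congr rfl fun i _ => ?_
    rw [map_mul ψ, map_pow ψ, hψC, show ψ Polynomial.X = X' from Polynomial.eval₂_X _ _, map_mul, map_pow]
    have h1 : ∀ (m : ℕ) (y : B) (hy : y ∈ ℬ (m • 1)),
        algebraMap A0' (Localization.Away (φ f)) (Away.mk ℬ hfB m y hy) * algebraMap B (Localization.Away (φ f)) (φ f) ^ m =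
          algebraMap B (Localization.Away (φ f)) y := fun m y hy => by
      change (Away.mk ℬ hfB m y hy).val * _ = _
      rw [Away.val_mk, Localization.mk_eq_mk', ← map_pow (algebraMap B (Localization.Away (φ f)))]
      exact IsLocalization.mk'_spec _ y (⟨φ f ^ m, m, rfl⟩ : Submonoid.powers (φ f))
    rw [Away.map_mk]
    by_cases hin : i ≤ n
    · change algebraMap B (Localization.Away (φ f)) (φ (c i)) * algebraMap B (Localization.Away (φ f)) z ^ i = _
      rw [show algebraMap B (Localization.Away (φ f)) ((φ f) ^ n) =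
        algebraMap B (Localization.Away (φ f)) (φ f) ^ (n - i) * (algebraMap B (Localization.Away (φ f)) (φ f) ^ 1) ^ i by
          rw [map_pow, ← pow_mul, ← pow_add]; congr 1; omega,
        map_mul (algebraMap A0' (Localization.Away (φ f))), map_pow (algebraMap A0' (Localization.Away (φ f))),
        mul_mul_mul_comm, ← mul_pow, h1, h1]
    · have hc0 : φ (c i) = 0 := by rw [show c i = 0 from if_neg hin, map_zero]
      have hz' : ∀ (y : B) hy, y = 0 → Away.mk ℬ hfB (n - i) y hy = 0 := fun y hy hy0 =>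
        val_injective _ (by rw [Away.val_mk, val_zero]; subst hy0; rw [Localization.mk_zero])
      rw [hz' _ _ hc0, hc0]
      simp

theorem exists_degOne_mem' (hgen : Subring.closure ((𝒜 0 : Set A) ∪ (𝒜 1 : Set A)) = ⊤) (y : Proj 𝒜) :
    ∃ f : A, f ∈ 𝒜 1 ∧ y ∈ Proj.basicOpen 𝒜 f := by
  classical
  by_contra hno
  have h1 : ∀ f ∈ 𝒜 1, f ∈ y.asHomogeneousIdeal.toIdeal := fun f hf => by
    by_contra hm; exact hno ⟨f, hf, hm⟩
  have key : ∀ a : A, a - GradedRing.projZeroRingHom 𝒜 a ∈ y.asHomogeneousIdeal.toIdeal := fun a => by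
    induction (hgen.ge trivial : a ∈ Subring.closure ((𝒜 0 : Set A) ∪ (𝒜 1 : Set A))) using
      Subring.closure_induction with
    | mem x hx =>
      rcases hx with hx | hx
      · rw [GradedRing.projZeroRingHom_apply, DirectSum.decompose_of_mem_same 𝒜 hx, sub_self]; exact zero_mem _
      · rw [GradedRing.projZeroRingHom_apply, DirectSum.decompose_of_mem_ne 𝒜 hx one_ne_zero, sub_zero]
        exact h1 x hx
    | zero => simp
    | one => rw [map_one, sub_self]; exact zero_mem _
    | add x y' _ _ hx hy => rw [map_add, add_sub_add_comm]; exact add_mem hx hy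
    | neg x _ hx => rw [map_neg, ← neg_sub']; exact neg_mem hx
    | mul x y' _ _ hx hy =>
      rw [map_mul, show x * y' - GradedRing.projZeroRingHom 𝒜 x * GradedRing.projZeroRingHom 𝒜 y' =
        (x - GradedRing.projZeroRingHom 𝒜 x) * y' +
          GradedRing.projZeroRingHom 𝒜 x * (y' - GradedRing.projZeroRingHom 𝒜 y') by ring]
      exact add_mem (Ideal.mul_mem_right _ _ hx) (Ideal.mul_mem_left _ _ hy)
  refine y.not_irrelevant_le fun a ha => ?_
  have h2 : GradedRing.projZeroRingHom 𝒜 a = 0 := by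
    rw [GradedRing.projZeroRingHom_apply, ← GradedRing.proj_apply]
    exact (HomogeneousIdeal.mem_irrelevant_iff _ _).mp ha
  simpa [h2] using key a

theorem exists_laurentEquiv_piece {φ : 𝒜 →+*ᵍ ℬ} {z : B} (h : IsPoly φ z) {f : A} (hf : f ∈ 𝒜 1) :
    ∃ ψ : LaurentPolynomial (Away 𝒜 f) ≃+* Localization.Away (h.ev 1 (φ f)),
      ∀ c, ψ (LaurentPolynomial.C c) = ((h.pieceHom (φ f)).comp (Away.map φ f)) c := by
  have key : ∀ (a' : A) (_ : a' = f) (χ : Away 𝒜 f →+* Localization.Away a'),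
      (∀ (n : ℕ) (a : A) (ha : a ∈ 𝒜 (n • 1)),
        χ (Away.mk 𝒜 hf n a ha) * algebraMap A _ a' ^ n = algebraMap A _ a) →
      ∃ ψ : LaurentPolynomial (Away 𝒜 f) ≃+* Localization.Away a', ∀ c, ψ (LaurentPolynomial.C c) = χ c := by
    intro a' e χ hχ
    subst e
    rw [show χ = algebraMap (Away 𝒜 a') (Localization.Away a') from RingHom.ext fun q => by
      obtain ⟨n, a, ha, rfl⟩ := Away.mk_surjective 𝒜 hf q
      refine ((IsLocalization.Away.algebraMap_isUnit (S := Localization.Away a') a').pow n).mul_left_inj.1 ?_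
      rw [hχ, HomogeneousLocalization.algebraMap_apply, Away.val_mk, Localization.mk_eq_mk', ← map_pow,
        IsLocalization.mk'_spec]]
    exact exists_laurentEquiv hf
  refine key _ (h.ev_map 1 f) _ fun n a ha => ?_
  rw [RingHom.comp_apply, Away.map_mk]
  refine (awayHom_mk (ℬ := ℬ) _ (φ.2 hf) _ n _ _).trans ?_
  exact congrArg (algebraMap A (Localization.Away (h.ev 1 (φ f)))) (h.ev_map 1 a)

end ring

/-- Charts of the shape `Spec R[T]`-like: transport a pullback square along a presentation. -/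
lemma isPullback_of_equiv {X Y : Scheme.{u}} {π : X ⟶ Y} {R L L' : Type u} [CommRing R] [CommRing L] [CommRing L']
    [Algebra R L'] {χ : R →+* L} (ψ : L' ≃+* L) (hψ : ∀ c, ψ (algebraMap R L' c) = χ c)
    {i : Spec (CommRingCat.of R) ⟶ Y} {c : Spec (CommRingCat.of L) ⟶ X}
    (sq : IsPullback (Spec.map (CommRingCat.ofHom χ)) c i π) :
    ∃ c' : Spec (CommRingCat.of L') ⟶ X,
      IsPullback c' (Spec.map (CommRingCat.ofHom (algebraMap R L'))) π i := by
  let I : Spec (CommRingCat.of L') ≅ Spec (CommRingCat.of L) :=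
    Scheme.Spec.mapIso ψ.toCommRingCatIso.symm.op
  refine ⟨I.hom ≫ c, ?_⟩
  refine IsPullback.of_iso sq.flip I.symm (Iso.refl _) (Iso.refl _) (Iso.refl _) ?_ ?_ (by simp) (by simp)
  · simp
  · rw [Iso.refl_hom, Category.comp_id]
    change _ = Spec.map _ ≫ Spec.map _
    rw [← Spec.map_comp]
    congr 1
    exact CommRingCat.hom_ext (RingHom.ext fun c => (hψ c).symm)

variable {Y : Scheme.{u}} {𝒮 𝒮h : RelProj.QCGrAlg Y} {ι : 𝒮.toQCAlg ⟶ 𝒮h.toQCAlg}
  {z : 𝒮h.presheaf.obj (op ⊤)} (hz : RelCone.IsPolyOver 𝒮 𝒮h ι z)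
  {PC P : Scheme.{u}} {pC : PC ⟶ Y}
  {chartC : ∀ (U : Y.Opens) (hU : IsAffineOpen U), (((pC ⁻¹ᵁ U : PC.Opens) : Scheme.{u}) ≅ Proj (𝒮h.deg U hU))}
  (hPC : RelProj.IsRelProj 𝒮h pC chartC) {p : P ⟶ Y}
  {chart : ∀ (U : Y.Opens) (hU : IsAffineOpen U), (((p ⁻¹ᵁ U : P.Opens) : Scheme.{u}) ≅ Proj (𝒮.deg U hU))}
  (hP : RelProj.IsRelProj 𝒮 p chart)
  {i : 𝒮.toQCAlg.spec ⟶ PC} (hi : RelCone.IsConeImm 𝒮 hz pC chartC i)

variable {r : ((RelProj.domQ (RelProj.QGrHom.ofHom ι hz.graded) pC chartC : PC.Opens) : Scheme.{u}) ⟶ P} (hr : IsRetr hz pC chartC p chart (RelProj.domQ (RelProj.QGrHom.ofHom ι hz.graded) pC chartC) r)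

include hP hr in
theorem isPullback_retrPiece (U : Y.Opens) (hU : IsAffineOpen U) {d : ℕ} (hd : 0 < d)
    {f : 𝒮.presheaf.obj (op U)} (hf : f ∈ 𝒮.deg U hU d) :
    IsPullback (Spec.map (CommRingCat.ofHom (Away.map (RelProj.gradedHomAt ι hz.graded U hU) f)))
      (retrPiece hz hPC U hU hd hf) (Proj.awayι (𝒮.deg U hU) f hf hd ≫ RelProj.emb p chart U hU) r := by
  haveI : IsOpenImmersion (retrPiece hz hPC U hU hd hf) := by
    haveI : IsOpenImmersion (retrPiece hz hPC U hU hd hf ≫ (RelProj.domQ (RelProj.QGrHom.ofHom ι hz.graded) pC chartC).ι) := by rw [retrPiece_ι]; infer_instance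
    exact IsOpenImmersion.of_comp _ (RelProj.domQ (RelProj.QGrHom.ofHom ι hz.graded) pC chartC).ι
  refine IsOpenImmersion.isPullback _ _ _ _ (hr U hU d hd f hf _ (retrPiece_ι hz hPC U hU hd hf)) ?_
  obtain ⟨⟨v, hv, -⟩, -⟩ :=
    S12139.result (𝟙 Y) 𝒮 𝒮h (RelProj.QGrHom.ofHom ι hz.graded) p chart hP pC chartC hPC
  have hrv : r = v := (retr_dom hz hPC hP).1.unique hr (isRetr_of_isProjQMapOn hz v hv)
  have hrp : r ≫ p = (RelProj.domQ (RelProj.QGrHom.ofHom ι hz.graded) pC chartC).ι ≫ pC := ((retr_dom hz hPC hP).2 r hr).2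
  refine Opens.ext (Set.ext fun w => ?_)
  constructor
  · rintro ⟨a, ha⟩
    have hwU : pC ((RelProj.domQ (RelProj.QGrHom.ofHom ι hz.graded) pC chartC).ι w) ∈ U := by
      rw [← Scheme.Hom.comp_apply, ← hrp, Scheme.Hom.comp_apply, ← ha]
      exact (RelProjLib.opensRange_emb (q := p) (ch := chart) U hU).le ⟨_, rfl⟩
    have hm : r w ∈ RelProj.emb p chart U hU ''ᵁ Proj.basicOpen (𝒮.deg U hU) f :=
      ⟨_, (Proj.opensRange_awayι _ f hf hd).le ⟨a, rfl⟩, ha⟩
    rw [hrv, RelProjLib.mem_preimage_iff _ hPC hv hU hU le_rfl hd hf w hwU,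
      RelProjLib.gradedAt_ofHom ι hz.graded U hU] at hm
    obtain ⟨y, hy, hye⟩ := hm
    obtain ⟨b, rfl⟩ := (Proj.opensRange_awayι _ _ ((RelProj.gradedHomAt ι hz.graded U hU).2 hf) hd).ge hy
    refine ⟨b, (RelProj.domQ (RelProj.QGrHom.ofHom ι hz.graded) pC chartC).ι.isOpenEmbedding.injective ?_⟩
    rw [← Scheme.Hom.comp_apply, retrPiece_ι]
    exact hye
  · intro hw
    obtain ⟨a, rfl⟩ := hw
    exact ⟨Spec.map (CommRingCat.ofHom (Away.map (RelProj.gradedHomAt ι hz.graded U hU) f)) a,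
      (congr($(hr U hU d hd f hf _ (retrPiece_ι hz hPC U hU hd hf)) a)).symm⟩

include hPC hP hr in
theorem chart_poly (U : Y.Opens) (hU : IsAffineOpen U) {f : 𝒮.presheaf.obj (op U)} (hf : f ∈ 𝒮.deg U hU 1) :
    ∃ c : Spec (CommRingCat.of (Polynomial (Away (𝒮.deg U hU) f))) ⟶ ((RelProj.domQ (RelProj.QGrHom.ofHom ι hz.graded) pC chartC : PC.Opens) : Scheme.{u}),
      IsPullback c (Spec.map (CommRingCat.ofHom (algebraMap (Away (𝒮.deg U hU) f) _))) r
        (Proj.awayι (𝒮.deg U hU) f hf one_pos ≫ RelProj.emb p chart U hU) := by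
  obtain ⟨ψ, hψ⟩ := exists_polyEquiv (isPoly hz U hU) hf
  exact isPullback_of_equiv ψ hψ (isPullback_retrPiece hz hPC hP hr U hU one_pos hf)

variable {i' : ((RelCone.pointedCone 𝒮 : 𝒮.toQCAlg.spec.Opens) : Scheme.{u}) ⟶ ((RelProj.domQ (RelProj.QGrHom.ofHom ι hz.graded) pC chartC : PC.Opens) : Scheme.{u})}
  (hi' : i' ≫ (RelProj.domQ (RelProj.QGrHom.ofHom ι hz.graded) pC chartC).ι = (RelCone.pointedCone 𝒮).ι ≫ i)

include hPC hP hi hr hi' in
theorem chart_laurent (U : Y.Opens) (hU : IsAffineOpen U) {f : 𝒮.presheaf.obj (op U)} (hf : f ∈ 𝒮.deg U hU 1) :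
    ∃ c : Spec (CommRingCat.of (LaurentPolynomial (Away (𝒮.deg U hU) f))) ⟶
        ((RelCone.pointedCone 𝒮 : 𝒮.toQCAlg.spec.Opens) : Scheme.{u}),
      IsPullback c (Spec.map (CommRingCat.ofHom (algebraMap (Away (𝒮.deg U hU) f) _))) (i' ≫ r)
        (Proj.awayι (𝒮.deg U hU) f hf one_pos ≫ RelProj.emb p chart U hU) := by
  let φ := RelProj.gradedHomAt ι hz.graded U hU
  let h : IsPoly φ (RelCone.restrictTop 𝒮h z U) := isPoly hz U hU
  let sA : Spec (CommRingCat.of (Localization.Away (h.ev 1 (φ f)))) ⟶ Spec (𝒮.presheaf.obj (op U)) :=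
    Spec.map (CommRingCat.ofHom (algebraMap (𝒮.presheaf.obj (op U)) (Localization.Away (h.ev 1 (φ f)))))
  haveI : IsOpenImmersion sA := IsOpenImmersion.of_isLocalization (h.ev 1 (φ f))
  have hsub : Set.range (sA ≫ 𝒮.toQCAlg.ι U hU).base ⊆ Set.range (RelCone.pointedCone 𝒮).ι.base := by
    rw [Scheme.Opens.range_ι]
    rintro _ ⟨v, rfl⟩
    refine Opens.mem_iSup.2 ⟨⟨U, hU⟩, sA v, fun hall => ?_, rfl⟩
    have h1 : (h.ev 1 (φ f)) ∈ (sA v).asIdeal :=
      (congrArg (fun t => t ∈ (sA v).asIdeal) (h.ev_map 1 f)).mpr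
        (hall (HomogeneousIdeal.mem_irrelevant_of_mem _ one_pos hf))
    exact (PrimeSpectrum.localization_away_comap_range (Localization.Away (h.ev 1 (φ f))) (h.ev 1 (φ f))).le
      ⟨v, rfl⟩ h1
  let cE := IsOpenImmersion.lift (RelCone.pointedCone 𝒮).ι (sA ≫ 𝒮.toQCAlg.ι U hU) hsub
  have hcE : cE ≫ (RelCone.pointedCone 𝒮).ι = sA ≫ 𝒮.toQCAlg.ι U hU := IsOpenImmersion.lift_fac _ _ _
  haveI : IsOpenImmersion cE := by
    haveI : IsOpenImmersion (cE ≫ (RelCone.pointedCone 𝒮).ι) := by rw [hcE]; infer_instance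
    exact IsOpenImmersion.of_comp _ (RelCone.pointedCone 𝒮).ι
  haveI : IsOpenImmersion (retrPiece hz hPC U hU one_pos hf) := by
    haveI : IsOpenImmersion (retrPiece hz hPC U hU one_pos hf ≫ (RelProj.domQ (RelProj.QGrHom.ofHom ι hz.graded) pC chartC).ι) := by rw [retrPiece_ι]; infer_instance
    exact IsOpenImmersion.of_comp _ (RelProj.domQ (RelProj.QGrHom.ofHom ι hz.graded) pC chartC).ι
  have hcomm : cE ≫ i' = Spec.map (CommRingCat.ofHom (h.pieceHom (φ f))) ≫ retrPiece hz hPC U hU one_pos hf := by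
    rw [← cancel_mono (RelProj.domQ (RelProj.QGrHom.ofHom ι hz.graded) pC chartC).ι, Category.assoc, Category.assoc, hi', reassoc_of% hcE, retrPiece_ι,
      (isConeImm_iff hz).1 hi U hU, pieceC, ← Category.assoc, ← Category.assoc]
    congr 1
    exact (h.piece_square one_pos (φ.2 hf)).symm
  have sq1 : IsPullback (Spec.map (CommRingCat.ofHom (h.pieceHom (φ f)))) cE (retrPiece hz hPC U hU one_pos hf) i' := by
    refine IsOpenImmersion.isPullback _ _ _ _ hcomm ?_
    refine Opens.ext (Set.ext fun w => ?_)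
    constructor
    · rintro ⟨b, hb⟩
      have hb' : RelProj.emb pC chartC U hU (Proj.awayι (𝒮h.deg U hU) (φ f) (φ.2 hf) one_pos b) =
          i ((RelCone.pointedCone 𝒮).ι w) := by
        have e := congrArg (RelProj.domQ (RelProj.QGrHom.ofHom ι hz.graded) pC chartC).ι hb
        rw [← Scheme.Hom.comp_apply, retrPiece_ι, ← Scheme.Hom.comp_apply, hi'] at e
        exact e
      have hw : (RelCone.pointedCone 𝒮).ι w ∈ i ⁻¹ᵁ (pC ⁻¹ᵁ U) := by
        show i _ ∈ pC ⁻¹ᵁ U
        rw [← hb']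
        exact (RelProjLib.opensRange_emb (q := pC) (ch := chartC) U hU).le ⟨_, rfl⟩
      rw [coneImm_preimage hz hPC hi U hU] at hw
      obtain ⟨v, hv⟩ := hw
      rw [← hv] at hb'
      replace hb' : RelProj.emb pC chartC U hU (Proj.awayι (𝒮h.deg U hU) (φ f) (φ.2 hf) one_pos b) =
          RelProj.emb pC chartC U hU (h.piece v) := hb'.trans (congr($((isConeImm_iff hz).1 hi U hU) v))
      have hp' : h.piece v ∈ Proj.basicOpen (𝒮h.deg U hU) (φ f) :=
        (Proj.opensRange_awayι _ _ (φ.2 hf) one_pos).le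
          ⟨b, (RelProj.emb pC chartC U hU).isOpenEmbedding.injective hb'⟩
      obtain ⟨v', rfl⟩ : v ∈ Set.range sA :=
        (PrimeSpectrum.localization_away_comap_range (Localization.Away (h.ev 1 (φ f))) (h.ev 1 (φ f))).ge
          ((h.preimage_basicOpen one_pos (φ.2 hf) v).1 hp')
      refine ⟨v', (RelCone.pointedCone 𝒮).ι.isOpenEmbedding.injective ?_⟩
      rw [← Scheme.Hom.comp_apply, hcE]
      exact hv
    · rintro ⟨v, rfl⟩
      exact ⟨Spec.map (CommRingCat.ofHom (h.pieceHom (φ f))) v, (congr($hcomm v)).symm⟩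
  have sq : IsPullback (Spec.map (CommRingCat.ofHom ((h.pieceHom (φ f)).comp (Away.map φ f)))) cE
      (Proj.awayι (𝒮.deg U hU) f hf one_pos ≫ RelProj.emb p chart U hU) (i' ≫ r) := by
    rw [CommRingCat.ofHom_comp, Spec.map_comp]
    exact sq1.paste_horiz (isPullback_retrPiece hz hPC hP hr U hU one_pos hf)
  obtain ⟨ψ, hψ⟩ := exists_laurentEquiv_piece h hf
  exact isPullback_of_equiv ψ hψ sq

/-- finite type and fibres from degree-one charts -/
theorem ft_fibre (hgen : 𝒮.IsGenDegOne) {X : Scheme.{u}} (π : X ⟶ P) (L : ∀ (R : Type u) [CommRing R], Type u)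
    [∀ (R : Type u) [CommRing R], CommRing (L R)] [∀ (R : Type u) [CommRing R], Algebra R (L R)]
    (hft : ∀ (R : Type u) [CommRing R], Algebra.FiniteType R (L R))
    (bc : ∀ (R K : Type u) [CommRing R] [CommRing K] [Algebra R K], Nonempty (K ⊗[R] (L R) ≃ₐ[K] (L K)))
    (hc : ∀ (U : Y.Opens) (hU : IsAffineOpen U) (f : 𝒮.presheaf.obj (op U)) (hf : f ∈ 𝒮.deg U hU 1),
      ∃ c : Spec (CommRingCat.of (L (Away (𝒮.deg U hU) f))) ⟶ X,
        IsPullback c (Spec.map (CommRingCat.ofHom (algebraMap (Away (𝒮.deg U hU) f) (L (Away (𝒮.deg U hU) f))))) π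
          (Proj.awayι (𝒮.deg U hU) f hf one_pos ≫ RelProj.emb p chart U hU)) :
    LocallyOfFiniteType π ∧ QuasiCompact π ∧
      ∀ x : P, ∃ e : pullback π (P.fromSpecResidueField x) ≅ Spec (CommRingCat.of (L (P.residueField x))),
        e.hom ≫ Spec.map (CommRingCat.ofHom (algebraMap (P.residueField x) (L (P.residueField x)))) =
          pullback.snd π (P.fromSpecResidueField x) := by
  have hcov : ∀ x : P, ∃ (U : Y.Opens) (hU : IsAffineOpen U) (f : 𝒮.presheaf.obj (op U))
      (hf : f ∈ 𝒮.deg U hU 1),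
      x ∈ Set.range (Proj.awayι (𝒮.deg U hU) f hf one_pos ≫ RelProj.emb p chart U hU) := fun x => by
    obtain ⟨U, hU, hxU, -⟩ := exists_isAffineOpen_mem_and_subset (x := p x) (U := (⊤ : Y.Opens)) trivial
    obtain ⟨y, rfl⟩ : x ∈ Set.range (RelProj.emb p chart U hU) :=
      (RelProjLib.opensRange_emb (q := p) (ch := chart) U hU).ge hxU
    obtain ⟨f, hf, hy⟩ := exists_degOne_mem' (hgen U hU) y
    obtain ⟨q, rfl⟩ := (Proj.opensRange_awayι _ f hf one_pos).ge hy
    exact ⟨U, hU, f, hf, q, rfl⟩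
  choose U hU f hf hx using hcov
  choose c hcp using hc
  let 𝒰 : P.OpenCover := Scheme.Cover.mkOfCovers P
    (fun x => Spec (CommRingCat.of (Away (𝒮.deg (U x) (hU x)) (f x))))
    (fun x => Proj.awayι (𝒮.deg (U x) (hU x)) (f x) (hf x) one_pos ≫ RelProj.emb p chart (U x) (hU x))
    (fun x => ⟨x, hx x⟩) (fun x => inferInstance)
  have prop : ∀ (Q : MorphismProperty Scheme.{u}) [IsZariskiLocalAtTarget Q] [Q.RespectsIso],
      (∀ x, Q (Spec.map (CommRingCat.ofHom (algebraMap (Away (𝒮.deg (U x) (hU x)) (f x))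
        (L (Away (𝒮.deg (U x) (hU x)) (f x))))))) → Q π := fun Q _ _ hQ => by
    refine IsZariskiLocalAtTarget.of_openCover (P := Q) 𝒰 fun x => ?_
    change Q (pullback.snd π _)
    erw [← (hcp (U x) (hU x) (f x) (hf x)).isoPullback_inv_snd, Q.cancel_left_of_respectsIso]
    exact hQ x
  refine ⟨prop @LocallyOfFiniteType fun x => ?_, prop @QuasiCompact fun x => inferInstance, fun x => ?_⟩
  · rw [HasRingHomProperty.Spec_iff (P := @LocallyOfFiniteType)]
    exact RingHom.finiteType_algebraMap.2 (hft _)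
  · exact PConeLib.exists_fibre_iso π _ _ _ _ (hcp (U x) (hU x) (f x) (hf x)) x (hx x) _ fun _ => bc _ _

include hPC hP hi in
theorem fibres_pointed (hgen : 𝒮.IsGenDegOne)
    (r : ((RelCone.pointedProjCone 𝒮 hz pC chartC : PC.Opens) : Scheme.{u}) ⟶ P)
    (hr : IsRetr hz pC chartC p chart (RelCone.pointedProjCone 𝒮 hz pC chartC) r) :
    (LocallyOfFiniteType r ∧ QuasiCompact r ∧
        ∀ x : P, ∃ e : pullback r (P.fromSpecResidueField x) ≅ Spec (CommRingCat.of (Polynomial (P.residueField x))),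
          e.hom ≫ Spec.map (CommRingCat.ofHom (algebraMap (P.residueField x) (Polynomial (P.residueField x)))) =
            pullback.snd r (P.fromSpecResidueField x)) ∧
      ∀ i' : ((RelCone.pointedCone 𝒮 : 𝒮.toQCAlg.spec.Opens) : Scheme.{u}) ⟶
          ((RelCone.pointedProjCone 𝒮 hz pC chartC : PC.Opens) : Scheme.{u}),
        i' ≫ (RelCone.pointedProjCone 𝒮 hz pC chartC).ι = (RelCone.pointedCone 𝒮).ι ≫ i →
          LocallyOfFiniteType (i' ≫ r) ∧ QuasiCompact (i' ≫ r) ∧
        ∀ x : P, ∃ e : pullback (i' ≫ r) (P.fromSpecResidueField x) ≅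
            Spec (CommRingCat.of (LaurentPolynomial (P.residueField x))),
          e.hom ≫ Spec.map (CommRingCat.ofHom (algebraMap (P.residueField x) (LaurentPolynomial (P.residueField x)))) =
            pullback.snd (i' ≫ r) (P.fromSpecResidueField x) := by
  revert r
  rw [pointedProjCone_eq_domQ hz hPC]
  intro r hr
  exact ⟨ft_fibre hgen r (fun R _ => Polynomial R) (fun R _ => inferInstance)
      (fun R K _ _ _ => ⟨(polyEquivTensor' R K).symm⟩) (fun U hU f hf => chart_poly hz hPC hP hr U hU hf),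
    fun i' hi' => ft_fibre hgen (i' ≫ r) (fun R _ => LaurentPolynomial R) (fun R _ => inferInstance)
      (fun R K _ _ _ => ⟨AddMonoidAlgebra.scalarTensorEquiv R K⟩)
      (fun U hU f hf => chart_laurent hz hPC hP hi hr hi' U hU hf)⟩

end Groth.Agent.ConeLib
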