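import Groth.Agent.ConeLib.Ring
import Mathlib.AlgebraicGeometry.ProjectiveSpectrum.Functor

/-!
# Naturality of the affine piece of the projective cone
-/

set_option autoImplicit false
set_option linter.style.haveILetI false
set_option linter.unusedSectionVars false
set_option backward.isDefEq.respectTransparency false
set_option backward.isDefEq.respectTransparency.types false

universe u

open CategoryTheory CategoryTheory.Limits AlgebraicGeometry TopologicalSpace HomogeneousLocalization Polynomial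

noncomputable section

namespace Groth.Agent.ConeLib

variable {A σ : Type u} [CommRing A] [SetLike σ A] [AddSubgroupClass σ A] {𝒜 : ℕ → σ} [GradedRing 𝒜]
variable {B τ : Type u} [CommRing B] [SetLike τ B] [AddSubgroupClass τ B] {ℬ : ℕ → τ} [GradedRing ℬ]
variable {A' σ' : Type u} [CommRing A'] [SetLike σ' A'] [AddSubgroupClass σ' A'] {𝒜' : ℕ → σ'} [GradedRing 𝒜']
variable {B' τ' : Type u} [CommRing B'] [SetLike τ' B'] [AddSubgroupClass τ' B'] {ℬ' : ℕ → τ'} [GradedRing ℬ']
variable {φ : 𝒜 →+*ᵍ ℬ} {z : B} {φ' : 𝒜' →+*ᵍ ℬ'} {z' : B'}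

lemma IsPoly.ev_natural (h : IsPoly φ z) (h' : IsPoly φ' z') (α : A →+* A') (β : B →+* B')
    (hcomm : ∀ a, β (φ a) = φ' (α a)) (hzz : β z = z') (c : A) (x : B) :
    h'.ev (α c) (β x) = α (h.ev c x) := by
  obtain ⟨P, rfl⟩ := h.bij.2 x
  refine RingHom.congr_fun (f := ((h'.ev (α c)).comp β).comp (eval₂RingHom φ.toRingHom z))
    (g := (α.comp (h.ev c)).comp (eval₂RingHom φ.toRingHom z)) (ringHom_ext (fun a => ?_) ?_) P
  · simp only [RingHom.comp_apply, coe_eval₂RingHom, eval₂_C]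
    change h'.ev (α c) (β (φ a)) = α (h.ev c (φ a))
    rw [hcomm, IsPoly.ev_map, IsPoly.ev_map]
  · simp only [RingHom.comp_apply, coe_eval₂RingHom, eval₂_X, hzz, IsPoly.ev_z]

theorem piece_natural (h : IsPoly φ z) (h' : IsPoly φ' z') (α : 𝒜 →+*ᵍ 𝒜') (β : ℬ →+*ᵍ ℬ')
    (hcomm : ∀ a, β (φ a) = φ' (α a)) (hzz : β z = z')
    (hirr : HomogeneousIdeal.irrelevant ℬ' ≤ (HomogeneousIdeal.irrelevant ℬ).map β) :
    h'.piece ≫ Proj.map β hirr = Spec.map (CommRingCat.ofHom α.toRingHom) ≫ h.piece := by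
  subst hzz
  rw [IsPoly.piece, IsPoly.piece, Category.assoc, Proj.awayι_comp_map β hirr one_pos z h.mem,
    ← Spec.map_comp_assoc, ← Spec.map_comp_assoc, ← CommRingCat.ofHom_comp, ← CommRingCat.ofHom_comp]
  congr 2
  refine CommRingCat.hom_ext (RingHom.ext fun q => ?_)
  obtain ⟨n, x, hx, rfl⟩ := Away.mk_surjective ℬ h.mem q
  change h'.awayTo (Away.map β z (Away.mk ℬ h.mem n x hx)) = α.toRingHom (h.awayTo (Away.mk ℬ h.mem n x hx))
  rw [Away.map_mk, IsPoly.awayTo_mk]
  erw [IsPoly.awayTo_mk]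
  have := h.ev_natural h' α.toRingHom β.toRingHom hcomm rfl 1 x
  rwa [map_one] at this

end Groth.Agent.ConeLib
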