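import Groth.Agent.ConeLib.Global
import Groth.Agent.ConeLib.Natural
import Groth.Agent.ConeLib.Dense
import Mathlib.AlgebraicGeometry.IdealSheaf.Functorial

/-!
# The canonical immersion of the affine cone into the projective cone
-/

set_option autoImplicit false
set_option linter.style.haveILetI false
set_option linter.unusedSectionVars false
set_option backward.isDefEq.respectTransparency false
set_option backward.isDefEq.respectTransparency.types false

universe u

open CategoryTheory CategoryTheory.Limits AlgebraicGeometry TopologicalSpace Opposite HomogeneousLocalization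

noncomputable section

namespace Groth.Agent.ConeLib

open Groth.Agent

/-- Morphisms out of a relative spectrum are glued from compatible morphisms out of the charts. -/
theorem existsUnique_specDesc {S : Scheme.{u}} (A : RelSpec.QCAlg S) {T : Scheme.{u}}
    (g : ∀ (U : S.Opens) (_ : IsAffineOpen U), Spec (A.presheaf.obj (op U)) ⟶ T)
    (hg : ∀ (U : S.Opens) (hU : IsAffineOpen U) (r : Γ(S, U)),
      Spec.map (A.presheaf.map (homOfLE (S.basicOpen_le r)).op) ≫ g U hU = g (S.basicOpen r) (hU.basicOpen r)) :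
    ∃! h : A.spec ⟶ T, ∀ (U : S.Opens) (hU : IsAffineOpen U), A.ι U hU ≫ h = g U hU := by
  let d : A.spec ⟶ T := colimit.desc A.glueData.functor
    { pt := T
      ι :=
        { app := fun U => g U.1 U.2
          naturality := fun V U h => by
            refine Eq.trans ?_ (Category.comp_id _).symm
            obtain ⟨r, hr⟩ := h.le
            obtain ⟨V, hV⟩ := V
            change S.basicOpen r = V at hr
            subst hr
            exact hg U.1 U.2 r } }
  refine ⟨d, fun U hU => colimit.ι_desc (F := A.glueData.functor) _ (⟨U, hU⟩ : S.AffineZariskiSite),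
    fun h' hh' => RelSpecUP.hom_ext_charts A fun U hU => ?_⟩
  have e1 : A.ι U hU ≫ d = g U hU := colimit.ι_desc (F := A.glueData.functor) _ (⟨U, hU⟩ : S.AffineZariskiSite)
  exact (hh' U hU).trans e1.symm

variable {Y : Scheme.{u}} {𝒮 𝒮h : RelProj.QCGrAlg Y} {ι : 𝒮.toQCAlg ⟶ 𝒮h.toQCAlg}
  {z : 𝒮h.presheaf.obj (op ⊤)} (hz : RelCone.IsPolyOver 𝒮 𝒮h ι z)
  {PC : Scheme.{u}} {pC : PC ⟶ Y}
  {chartC : ∀ (U : Y.Opens) (hU : IsAffineOpen U), (((pC ⁻¹ᵁ U : PC.Opens) : Scheme.{u}) ≅ Proj (𝒮h.deg U hU))}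
  (hPC : RelProj.IsRelProj 𝒮h pC chartC)

include hPC in
lemma pieceC_res (U : Y.Opens) (hU : IsAffineOpen U) (r : Γ(Y, U)) :
    Spec.map (𝒮.presheaf.map (homOfLE (Y.basicOpen_le r)).op) ≫ pieceC hz pC chartC U hU =
      pieceC hz pC chartC (Y.basicOpen r) (hU.basicOpen r) := by
  rw [pieceC, pieceC, ← RelProj.map_res_emb hPC U hU r, ← Category.assoc, ← Category.assoc]
  congr 1
  exact (piece_natural (isPoly hz U hU) (isPoly hz (Y.basicOpen r) (hU.basicOpen r))
    (𝒮.res hU (hU.basicOpen r) (Y.basicOpen_le r)) (𝒮h.res hU (hU.basicOpen r) (Y.basicOpen_le r))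
    (fun a => congr($(ι.hom.naturality (homOfLE (Y.basicOpen_le r)).op) a).symm)
    (by
      change (𝒮h.presheaf.map _).hom ((𝒮h.presheaf.map _).hom z) = (𝒮h.presheaf.map _).hom z
      rw [← CommRingCat.comp_apply, ← Functor.map_comp]
      rfl)
    (𝒮h.irrelevant_le_map U hU r)).symm

include hPC in
theorem existsUnique_coneImm : ∃! i : 𝒮.toQCAlg.spec ⟶ PC, RelCone.IsConeImm 𝒮 hz pC chartC i := by
  simp only [isConeImm_iff]
  exact existsUnique_specDesc 𝒮.toQCAlg (pieceC hz pC chartC) (pieceC_res hz hPC)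

variable {i : 𝒮.toQCAlg.spec ⟶ PC} (hi : RelCone.IsConeImm 𝒮 hz pC chartC i)

include hPC hi in
lemma isPullback_coneImm (U : Y.Opens) (hU : IsAffineOpen U) :
    IsPullback (pieceAt hz U hU) (𝒮.toQCAlg.ι U hU) (RelProj.emb pC chartC U hU) i := by
  refine IsOpenImmersion.isPullback _ _ _ _ ((isConeImm_iff hz).1 hi U hU) ?_
  rw [RelProjLib.opensRange_emb, coneImm_preimage hz hPC hi]

include hPC hi in
theorem isOpenImmersion_coneImm : IsOpenImmersion i := by
  refine (IsZariskiLocalAtTarget.iff_of_openCover (P := @IsOpenImmersion)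
    (RelProjLib.embCover (𝒮 := 𝒮h) (q := pC) (ch := chartC))).mpr fun U => ?_
  change IsOpenImmersion (pullback.snd i _)
  erw [← (isPullback_coneImm hz hPC hi U.1 U.2).flip.isoPullback_inv_snd]
  haveI := isOpenImmersion_pieceAt hz U.1 U.2
  infer_instance

include hPC hi in
theorem isAffineHom_coneImm : IsAffineHom i := by
  haveI := RelProjLib.isSeparated_p hPC
  haveI : IsAffineHom (i ≫ pC) := by rw [coneImm_over hz hPC hi]; infer_instance
  exact IsAffineHom.of_comp i pC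

include hPC hi in
theorem range_coneImm_inter (U : Y.Opens) (hU : IsAffineOpen U) :
    Set.range i.base ∩ (pC ⁻¹ᵁ U : Set PC) =
      (RelProj.emb pC chartC U hU).base '' (Proj.basicOpen (𝒮h.deg U hU) (RelCone.restrictTop 𝒮h z U) : Set _) := by
  ext x
  constructor
  · rintro ⟨⟨w, rfl⟩, hw⟩
    have h1 : w ∈ i ⁻¹ᵁ (pC ⁻¹ᵁ U) := hw
    rw [coneImm_preimage hz hPC hi U hU] at h1
    obtain ⟨v, rfl⟩ := h1
    refine ⟨pieceAt hz U hU v, (isPoly hz U hU).range_piece.le ⟨v, rfl⟩, ?_⟩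
    exact congr($((isPullback_coneImm hz hPC hi U hU).w) v)
  · rintro ⟨y, hy, rfl⟩
    obtain ⟨v, rfl⟩ := (isPoly hz U hU).range_piece.ge hy
    exact ⟨⟨_, (congr($((isPullback_coneImm hz hPC hi U hU).w) v)).symm⟩,
      (RelProjLib.opensRange_emb (q := pC) (ch := chartC) U hU).le ⟨_, rfl⟩⟩

set_option maxHeartbeats 2000000 in
include hPC hi in
theorem ker_coneImm : i.ker = ⊥ := by
  haveI := isAffineHom_coneImm hz hPC hi
  let ι' := Σ U : Y.affineOpens, Σ' (d : ℕ) (g : 𝒮h.presheaf.obj (op U.1)), 0 < d ∧ g ∈ 𝒮h.deg U.1 U.2 d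
  let c : ∀ k : ι', Spec (CommRingCat.of (Away (𝒮h.deg k.1.1 k.1.2) k.2.2.1)) ⟶ PC := fun k =>
    Proj.awayι (𝒮h.deg k.1.1 k.1.2) k.2.2.1 k.2.2.2.2 k.2.2.2.1 ≫ RelProj.emb pC chartC k.1.1 k.1.2
  haveI : ∀ k, IsOpenImmersion (c k) := fun k => by simp only [c]; infer_instance
  refine Scheme.IdealSheafData.ext_of_iSup_eq_top (fun k : ι' => ⟨(c k).opensRange, isAffineOpen_opensRange _⟩) ?_
    fun k => ?_
  · rw [eq_top_iff]
    intro x _
    obtain ⟨U, hxU⟩ := Opens.mem_iSup.mp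
      ((RelProjLib.iSup_opensRange_emb (𝒮 := 𝒮h) (q := pC) (ch := chartC)).ge (Set.mem_univ x))
    obtain ⟨y, rfl⟩ := hxU
    obtain ⟨s, q, hq⟩ : ∃ (s : Σ i : PNat, 𝒮h.deg U.1 U.2 i) (q : _),
        Proj.awayι (𝒮h.deg U.1 U.2) (s.2 : 𝒮h.presheaf.obj (op U.1)) s.2.2 s.1.2 q = y :=
      ⟨_, ((Proj.affineOpenCover (𝒮h.deg U.1 U.2)).openCover.exists_eq y).choose_spec⟩
    refine Opens.mem_iSup.2 ⟨⟨U, s.1, s.2, s.1.2, s.2.2⟩, q, ?_⟩
    rw [← hq]
    rfl
  obtain ⟨⟨U, hU⟩, d, g, hd, hg⟩ := k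
  let h := isPoly hz U hU
  let a := h.ev 1 g
  let sA : Spec (CommRingCat.of (Localization.Away a)) ⟶ Spec (𝒮.presheaf.obj (op U)) :=
    Spec.map (CommRingCat.ofHom (algebraMap (𝒮.presheaf.obj (op U)) (Localization.Away a)))
  haveI : IsOpenImmersion sA := IsOpenImmersion.of_isLocalization a
  let f' := Spec.map (CommRingCat.ofHom (h.pieceHom g))
  let iV := Proj.awayι (𝒮h.deg U hU) g hg hd ≫ RelProj.emb pC chartC U hU
  have H : IsPullback f' (sA ≫ 𝒮.toQCAlg.ι U hU) iV i := by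
    refine IsOpenImmersion.isPullback _ _ _ _ ?_ ?_
    · change (sA ≫ 𝒮.toQCAlg.ι U hU) ≫ i = f' ≫ Proj.awayι _ g hg hd ≫ RelProj.emb pC chartC U hU
      rw [← Category.assoc f', h.piece_square hd hg, Category.assoc, Category.assoc,
        (isConeImm_iff hz).1 hi U hU, pieceC, pieceAt]
    · have hpi : ∀ w, i (𝒮.toQCAlg.ι U hU w) = RelProj.emb pC chartC U hU (pieceAt hz U hU w) := fun w =>
        (congr($((isPullback_coneImm hz hPC hi U hU).w) w)).symm
      refine Opens.ext (Set.ext fun w => ?_)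
      constructor
      · rintro ⟨y, hy⟩
        have hw : w ∈ i ⁻¹ᵁ (pC ⁻¹ᵁ U) := by
          show i w ∈ pC ⁻¹ᵁ U
          rw [← hy]
          exact (RelProjLib.opensRange_emb (q := pC) (ch := chartC) U hU).le ⟨_, rfl⟩
        rw [coneImm_preimage hz hPC hi U hU] at hw
        obtain ⟨v, rfl⟩ := hw
        rw [hpi] at hy
        have hv : pieceAt hz U hU v ∈ Proj.basicOpen (𝒮h.deg U hU) g := by
          rw [← Proj.opensRange_awayι (𝒮h.deg U hU) g hg hd]
          exact ⟨y, (RelProj.emb pC chartC U hU).isOpenEmbedding.injective hy⟩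
        have hva := (h.preimage_basicOpen hd hg v).1 hv
        obtain ⟨v', rfl⟩ : v ∈ Set.range sA :=
          (PrimeSpectrum.localization_away_comap_range (Localization.Away a) a).ge hva
        exact ⟨v', rfl⟩
      · rintro ⟨v, rfl⟩
        refine ⟨Spec.map (CommRingCat.ofHom (h.pieceHom g)) v, ?_⟩
        change iV _ = i ((sA ≫ 𝒮.toQCAlg.ι U hU) v)
        rw [Scheme.Hom.comp_apply (sA) (𝒮.toQCAlg.ι U hU), hpi]
        change RelProj.emb pC chartC U hU ((Spec.map (CommRingCat.ofHom (h.pieceHom g)) ≫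
          Proj.awayι (𝒮h.deg U hU) g hg hd) v) = _
        rw [h.piece_square hd hg]
        rfl
  have h1 := Scheme.ker_ideal_of_isPullback_of_isOpenImmersion i f' (sA ≫ 𝒮.toQCAlg.ι U hU) iV H
    ⟨⊤, isAffineOpen_top _⟩
  have h2 : f'.ker.ideal ⟨⊤, isAffineOpen_top _⟩ = ⊥ := by
    rw [Scheme.Hom.ker_apply, ← RingHom.injective_iff_ker_eq_bot]
    have e : f'.appTop = (Scheme.ΓSpecIso _).hom ≫ CommRingCat.ofHom (h.pieceHom g) ≫ (Scheme.ΓSpecIso _).inv := by
      rw [← Category.assoc, Iso.eq_comp_inv]; exact Scheme.ΓSpecIso_naturality _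
    change Function.Injective f'.appTop
    rw [e]
    intro x y hxy
    apply (ConcreteCategory.bijective_of_isIso (Scheme.ΓSpecIso _).hom).1
    exact h.pieceHom_injective hg ((ConcreteCategory.bijective_of_isIso (Scheme.ΓSpecIso _).inv).1 hxy)
  rw [Scheme.IdealSheafData.ideal_bot, Pi.bot_apply]
  have h3 : ∀ (W : PC.affineOpens) (ψ : Γ(Spec (CommRingCat.of (Away (𝒮h.deg U hU) g)), ⊤) →+* Γ(PC, W.1)),
      Function.Bijective ψ → (i.ker.ideal W).comap ψ = ⊥ → i.ker.ideal W = ⊥ := fun W ψ hψ hc => by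
    rw [← Ideal.map_comap_of_surjective ψ hψ.2 (i.ker.ideal W), hc, Ideal.map_bot]
  have key : i.ker.ideal ⟨iV ''ᵁ ⊤, (isAffineOpen_top _).image_of_isOpenImmersion iV⟩ = ⊥ :=
    h3 _ _ (ConcreteCategory.bijective_of_isIso (iV.appIso ⊤).inv) (h1.symm.trans h2)
  exact (fun E (hE : iV ''ᵁ ⊤ = E) (hEa : IsAffineOpen E) => by
    subst hE; exact key : ∀ E, iV ''ᵁ ⊤ = E → ∀ hEa, i.ker.ideal ⟨E, hEa⟩ = ⊥) _ (Scheme.Hom.image_top_eq_opensRange iV) _

end Groth.Agent.ConeLib
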