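import Groth.Agent.ConeLib.QComp
import Groth.Agent.ConeLib.Imm
import Groth.Agent.RelProjLib.QMap

/-!
# Functoriality of the projective cone
-/

set_option autoImplicit false
set_option linter.style.haveILetI false
set_option linter.unusedSectionVars false
set_option backward.isDefEq.respectTransparency false
set_option backward.isDefEq.respectTransparency.types false

universe u

open CategoryTheory CategoryTheory.Limits AlgebraicGeometry TopologicalSpace Opposite HomogeneousLocalization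

noncomputable section

namespace Groth.Agent.ConeLib

open Groth.Agent

variable {Y Y' : Scheme.{u}} {q : Y' ⟶ Y}

/-- precomposition of a graded `q`-morphism with a graded homomorphism on the base -/
def preQ {𝒯 𝒮 : RelProj.QCGrAlg Y} {𝒮' : RelProj.QCGrAlg Y'} (v : 𝒯.toQCAlg ⟶ 𝒮.toQCAlg)
    (hv : RelProj.IsGradedHom v) (u : RelProj.QGrHom q 𝒮 𝒮') : RelProj.QGrHom q 𝒯 𝒮' where
  app U := v.hom.app (op U) ≫ u.app U
  naturality {U V} i := by
    rw [Category.assoc, u.naturality i, ← Category.assoc, ← Category.assoc, v.hom.naturality]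
  str_app U := by
    rw [← Category.assoc, ← NatTrans.comp_app, v.comm, u.str_app]
  map_mem U hU U' hU' hle _ x hx := u.map_mem U hU U' hU' hle (hv U hU _ x hx)

lemma gradedAt_preQ {𝒯 𝒮 : RelProj.QCGrAlg Y} {𝒮' : RelProj.QCGrAlg Y'} (v : 𝒯.toQCAlg ⟶ 𝒮.toQCAlg)
    (hv : RelProj.IsGradedHom v) (u : RelProj.QGrHom q 𝒮 𝒮') (U : Y.Opens) (hU : IsAffineOpen U)
    (V : Y.Opens) (hV : IsAffineOpen V) (V' : Y'.Opens) (hV' : IsAffineOpen V')
    (hle : V ≤ (𝟙 Y : Y ⟶ Y) ⁻¹ᵁ U) (hle' : V' ≤ q ⁻¹ᵁ V) (hle'' : V' ≤ q ⁻¹ᵁ U) :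
    (preQ v hv u).gradedAt U hU V' hV' hle'' =
      (u.gradedAt V hV V' hV' hle').comp ((RelProj.QGrHom.ofHom v hv).gradedAt U hU V hV hle) := by
  refine GradedRingHom.ext fun x => ?_
  change (𝒮'.presheaf.map (homOfLE hle'').op).hom ((u.app U).hom ((v.hom.app (op U)).hom x)) =
    (𝒮'.presheaf.map (homOfLE hle').op).hom ((u.app V).hom ((𝒮.presheaf.map (homOfLE hle).op).hom ((v.hom.app (op U)).hom x)))
  have h := congr($(u.naturality (hle : V ≤ U)) ((v.hom.app (op U)).hom x))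
  rw [CommRingCat.comp_apply, CommRingCat.comp_apply] at h
  refine Eq.trans ?_ (congrArg (𝒮'.presheaf.map (homOfLE hle').op).hom h)
  rw [← CommRingCat.comp_apply (𝒮'.presheaf.map _) (𝒮'.presheaf.map _), ← Functor.map_comp]
  rfl

/-- `gradedAt` is compatible with restriction -/
lemma gradedAt_res {𝒮 : RelProj.QCGrAlg Y} {𝒮' : RelProj.QCGrAlg Y'} (u : RelProj.QGrHom q 𝒮 𝒮') (U : Y.Opens)
    (hU : IsAffineOpen U) (V' : Y'.Opens) (hV' : IsAffineOpen V') (W' : Y'.Opens) (hW' : IsAffineOpen W')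
    (i : W' ≤ V') (hle : V' ≤ q ⁻¹ᵁ U) (hle' : W' ≤ q ⁻¹ᵁ U) (x : 𝒮.presheaf.obj (op U)) :
    u.gradedAt U hU W' hW' hle' x = (𝒮'.presheaf.map (homOfLE i).op).hom (u.gradedAt U hU V' hV' hle x) := by
  change (𝒮'.presheaf.map (homOfLE hle').op).hom ((u.app U).hom x) =
    (𝒮'.presheaf.map (homOfLE i).op).hom ((𝒮'.presheaf.map (homOfLE hle).op).hom ((u.app U).hom x))
  rw [← CommRingCat.comp_apply (𝒮'.presheaf.map _) (𝒮'.presheaf.map _), ← Functor.map_comp]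
  rfl

/-- the graded `id`-morphism of a homomorphism, on a pair -/
lemma gradedAt_ofHom_res {𝒯 𝒮 : RelProj.QCGrAlg Y'} (v : 𝒯.toQCAlg ⟶ 𝒮.toQCAlg) (hv : RelProj.IsGradedHom v)
    (V' : Y'.Opens) (hV' : IsAffineOpen V') (W' : Y'.Opens) (hW' : IsAffineOpen W')
    (i : W' ≤ (𝟙 Y' : Y' ⟶ Y') ⁻¹ᵁ V') (x : 𝒯.presheaf.obj (op V')) :
    (RelProj.QGrHom.ofHom v hv).gradedAt V' hV' W' hW' i x =
      (v.hom.app (op W')).hom ((𝒯.presheaf.map (homOfLE (i : W' ≤ V')).op).hom x) :=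
  (congr($(v.hom.naturality (homOfLE (i : W' ≤ V')).op) x)).symm

variable {𝒮 𝒮h : RelProj.QCGrAlg Y} {𝒮' 𝒮h' : RelProj.QCGrAlg Y'} {u : RelProj.QGrHom q 𝒮 𝒮'}
  {ι : 𝒮.toQCAlg ⟶ 𝒮h.toQCAlg} {z : 𝒮h.presheaf.obj (op ⊤)} (hz : RelCone.IsPolyOver 𝒮 𝒮h ι z)
  {ι' : 𝒮'.toQCAlg ⟶ 𝒮h'.toQCAlg} {z' : 𝒮h'.presheaf.obj (op ⊤)} (hz' : RelCone.IsPolyOver 𝒮' 𝒮h' ι' z')
  {uh : RelProj.QGrHom q 𝒮h 𝒮h'}
  (huh : ∀ U : Y.Opens, ι.hom.app (op U) ≫ uh.app U = u.app U ≫ ι'.hom.app (op (q ⁻¹ᵁ U)))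
  (huhz : (uh.app ⊤).hom z = RelCone.restrictTop 𝒮h' z' (q ⁻¹ᵁ ⊤))

section pair

variable (U : Y.Opens) (hU : IsAffineOpen U) (U' : Y'.Opens) (hU' : IsAffineOpen U') (hle : U' ≤ q ⁻¹ᵁ U)

include huh in
lemma uh_ι (a : 𝒮.presheaf.obj (op U)) :
    uh.gradedAt U hU U' hU' hle (RelProj.gradedHomAt ι hz.graded U hU a) =
      RelProj.gradedHomAt ι' hz'.graded U' hU' (u.gradedAt U hU U' hU' hle a) := by
  change (𝒮h'.presheaf.map (homOfLE hle).op).hom ((uh.app U).hom ((ι.hom.app (op U)).hom a)) =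
    (ι'.hom.app (op U')).hom ((𝒮'.presheaf.map (homOfLE hle).op).hom ((u.app U).hom a))
  refine Eq.trans ?_ (congr($(ι'.hom.naturality (homOfLE hle).op) ((u.app U).hom a))).symm
  exact congrArg (𝒮h'.presheaf.map (homOfLE hle).op).hom (congr($(huh U) a))

include huhz in
lemma uh_z :
    uh.gradedAt U hU U' hU' hle (RelCone.restrictTop 𝒮h z U) = RelCone.restrictTop 𝒮h' z' U' := by
  change (𝒮h'.presheaf.map (homOfLE hle).op).hom ((uh.app U).hom ((𝒮h.presheaf.map (homOfLE le_top).op).hom z)) =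
    (𝒮h'.presheaf.map (homOfLE le_top).op).hom z'
  have h := congr($(uh.naturality (le_top : U ≤ ⊤)) z)
  rw [CommRingCat.comp_apply, CommRingCat.comp_apply] at h
  rw [← h, huhz]
  change (𝒮h'.presheaf.map _).hom ((𝒮h'.presheaf.map _).hom ((𝒮h'.presheaf.map _).hom z')) = _
  rw [← CommRingCat.comp_apply, ← Functor.map_comp, ← CommRingCat.comp_apply, ← Functor.map_comp]
  rfl

include hz in
lemma gradedHom_ext_poly {C τ : Type u} [CommRing C] [SetLike τ C] [AddSubgroupClass τ C] {𝒞 : ℕ → τ} [GradedRing 𝒞]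
    {α β : 𝒮h.deg U hU →+*ᵍ 𝒞}
    (h1 : ∀ a : 𝒮.presheaf.obj (op U), α (RelProj.gradedHomAt ι hz.graded U hU a) = β (RelProj.gradedHomAt ι hz.graded U hU a))
    (h2 : α (RelCone.restrictTop 𝒮h z U) = β (RelCone.restrictTop 𝒮h z U)) : α = β := by
  refine GradedRingHom.ext fun b => ?_
  obtain ⟨P, rfl⟩ := (isPoly hz U hU).bij.2 b
  rw [Polynomial.coe_eval₂RingHom, Polynomial.eval₂_eq_sum_range]
  simp only [map_sum, map_mul, map_pow]
  exact Finset.sum_congr rfl fun i _ => congrArg₂ (· * ·) (h1 _) (congrArg (· ^ i) h2)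

include huh huhz in
/-- `ev` commutes with `uh` -/
lemma ev_one_uh (b : 𝒮h.presheaf.obj (op U)) :
    (isPoly hz' U' hU').ev 1 (uh.gradedAt U hU U' hU' hle b) =
      u.gradedAt U hU U' hU' hle ((isPoly hz U hU).ev 1 b) := by
  obtain ⟨P, rfl⟩ := (isPoly hz U hU).bij.2 b
  rw [Polynomial.coe_eval₂RingHom, Polynomial.eval₂_eq_sum_range]
  simp only [map_sum, map_mul, map_pow]
  refine Finset.sum_congr rfl fun i _ => congrArg₂ (· * ·) ?_ (congrArg (· ^ i) ?_)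
  · refine (congrArg _ (uh_ι hz hz' huh U hU U' hU' hle _)).trans ?_
    rw [IsPoly.ev_map]
    exact congrArg _ ((isPoly hz U hU).ev_map 1 _).symm
  · rw [uh_z huhz, IsPoly.ev_z, IsPoly.ev_z, map_one]

end pair

/-- the composite `𝒮 → 𝒮h'` -/
local notation "cmpQ" => preQ ι hz.graded uh

include huh in
lemma hc_ι' (U : Y.Opens) (hU : IsAffineOpen U) (V' : Y'.Opens) (hV' : IsAffineOpen V') (W' : Y'.Opens)
    (hW' : IsAffineOpen W') (hle : V' ≤ q ⁻¹ᵁ U) (hle' : W' ≤ (𝟙 Y' : Y' ⟶ Y') ⁻¹ᵁ V') (hle'' : W' ≤ q ⁻¹ᵁ U) :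
    (preQ ι hz.graded uh).gradedAt U hU W' hW' hle'' =
      ((RelProj.QGrHom.ofHom ι' hz'.graded).gradedAt V' hV' W' hW' hle').comp (u.gradedAt U hU V' hV' hle) := by
  refine GradedRingHom.ext fun a => ?_
  refine Eq.trans (uh_ι hz hz' huh U hU W' hW' hle'' a) ?_
  refine Eq.trans ?_ (gradedAt_ofHom_res ι' hz'.graded V' hV' W' hW' hle' _).symm
  exact congrArg (ι'.hom.app (op W')).hom (gradedAt_res u U hU V' hV' W' hW' hle' hle hle'' a)

variable {θ : 𝒮h.toQCAlg ⟶ 𝒮.toQCAlg} (hθ : RelProj.IsGradedHom θ) (hθι : ι ≫ θ = 𝟙 _)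
  (hθz : (θ.hom.app (op ⊤)).hom z = 0)
  {θ' : 𝒮h'.toQCAlg ⟶ 𝒮'.toQCAlg} (hθ' : RelProj.IsGradedHom θ') (hθι' : ι' ≫ θ' = 𝟙 _)
  (hθz' : (θ'.hom.app (op ⊤)).hom z' = 0)

include hz hz' huh huhz hθι hθz hθι' hθz' in
lemma hc_θ' (U : Y.Opens) (hU : IsAffineOpen U) (V' : Y'.Opens) (hV' : IsAffineOpen V') (W' : Y'.Opens)
    (hW' : IsAffineOpen W') (hle : V' ≤ q ⁻¹ᵁ U) (hle' : W' ≤ (𝟙 Y' : Y' ⟶ Y') ⁻¹ᵁ V') (hle'' : W' ≤ q ⁻¹ᵁ U) :
    (preQ θ hθ u).gradedAt U hU W' hW' hle'' =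
      ((RelProj.QGrHom.ofHom θ' hθ').gradedAt V' hV' W' hW' hle').comp (uh.gradedAt U hU V' hV' hle) := by
  have hθa : ∀ (a : 𝒮.presheaf.obj (op U)), (θ.hom.app (op U)).hom ((ι.hom.app (op U)).hom a) = a := fun a =>
    congr($(congrArg (fun f => RelSpec.QCAlg.Hom.hom f) hθι |> fun e => NatTrans.congr_app e (op U)) a)
  have hθa' : ∀ (a : 𝒮'.presheaf.obj (op W')), (θ'.hom.app (op W')).hom ((ι'.hom.app (op W')).hom a) = a := fun a =>
    congr($(congrArg (fun f => RelSpec.QCAlg.Hom.hom f) hθι' |> fun e => NatTrans.congr_app e (op W')) a)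
  have hr : ∀ b, (preQ θ hθ u).gradedAt U hU W' hW' hle'' b =
      u.gradedAt U hU W' hW' hle'' ((θ.hom.app (op U)).hom b) := fun b => rfl
  have hl : ∀ b, ((RelProj.QGrHom.ofHom θ' hθ').gradedAt V' hV' W' hW' hle').comp (uh.gradedAt U hU V' hV' hle) b =
      (θ'.hom.app (op W')).hom (uh.gradedAt U hU W' hW' hle'' b) := fun b =>
    (gradedAt_ofHom_res θ' hθ' V' hV' W' hW' hle' _).trans
      (congrArg (θ'.hom.app (op W')).hom (gradedAt_res uh U hU V' hV' W' hW' hle' hle hle'' b).symm)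
  refine gradedHom_ext_poly hz U hU (fun a => ?_) ?_
  · rw [hr, hl, uh_ι hz hz' huh U hU W' hW' hle'' a]
    refine Eq.trans ?_ (hθa' _).symm
    exact congrArg _ (hθa a)
  · rw [hr, hl, uh_z huhz U hU W' hW' hle'']
    have e1 : (θ.hom.app (op U)).hom (RelCone.restrictTop 𝒮h z U) = 0 := by
      refine (ConcreteCategory.congr_hom (θ.hom.naturality (homOfLE (le_top : U ≤ ⊤)).op) z).trans ?_
      simp [hθz]
    have e2 : (θ'.hom.app (op W')).hom (RelCone.restrictTop 𝒮h' z' W') = 0 := by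
      refine (ConcreteCategory.congr_hom (θ'.hom.naturality (homOfLE (le_top : W' ≤ ⊤)).op) z').trans ?_
      simp [hθz']
    rw [e1, e2, map_zero]

variable {PC : Scheme.{u}} {pC : PC ⟶ Y}
  {chartC : ∀ (U : Y.Opens) (hU : IsAffineOpen U), (((pC ⁻¹ᵁ U : PC.Opens) : Scheme.{u}) ≅ Proj (𝒮h.deg U hU))}
  (hC : RelProj.IsRelProj 𝒮h pC chartC)
  {PC' : Scheme.{u}} {pC' : PC' ⟶ Y'}
  {chartC' : ∀ (U : Y'.Opens) (hU : IsAffineOpen U), (((pC' ⁻¹ᵁ U : PC'.Opens) : Scheme.{u}) ≅ Proj (𝒮h'.deg U hU))}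
  (hC' : RelProj.IsRelProj 𝒮h' pC' chartC')
  {Φh : ((RelProj.domQ uh pC' chartC' : PC'.Opens) : Scheme.{u}) ⟶ PC}
  (hΦh : RelProj.IsProjQMapOn uh pC chartC pC' chartC' (RelProj.domQ uh pC' chartC') Φh)

include hC hC' hΦh in
lemma mem_cmp_iff_pre (x : (RelProj.domQ uh pC' chartC' : PC'.Opens).toScheme) :
    (RelProj.domQ uh pC' chartC').ι x ∈ RelProj.domQ (preQ ι hz.graded uh) pC' chartC' ↔
      Φh x ∈ RelProj.domQ (RelProj.QGrHom.ofHom ι hz.graded) pC chartC :=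
  mem_domQ_comp_iff (RelProj.QGrHom.ofHom ι hz.graded) uh (preQ ι hz.graded uh) (Category.comp_id q).symm
    (fun U hU V hV V' hV' hle hle' hle'' => gradedAt_preQ ι hz.graded uh U hU V hV V' hV' hle hle' hle'')
    hC hC' hΦh x

include hz huh in
lemma cmp_le_ι' :
    RelProj.domQ (preQ ι hz.graded uh) pC' chartC' ≤ RelProj.domQ (RelProj.QGrHom.ofHom ι' hz'.graded) pC' chartC' := by
  refine iSup_le fun V => ?_
  rintro _ ⟨w, hw, rfl⟩
  obtain ⟨f, hf, hfw⟩ := (RelCone.mem_domOpen _ _).mp hw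
  refine Opens.mem_iSup.mpr ⟨⟨(V.1.2, V.1.2), le_refl _⟩, w, (RelCone.mem_domOpen _ _).mpr
    ⟨u.gradedAt V.1.1.1 V.1.1.2 V.1.2.1 V.1.2.2 V.2 f, ?_, ?_⟩, rfl⟩
  · rw [HomogeneousIdeal.mem_iff, HomogeneousIdeal.mem_irrelevant_iff] at *
    rw [GradedRing.proj_apply, ← GradedRingHom.map_directSumDecompose, ← GradedRing.proj_apply, hf, map_zero]
  · rw [hc_ι' hz hz' huh V.1.1.1 V.1.1.2 V.1.2.1 V.1.2.2 V.1.2.1 V.1.2.2 V.2 (le_refl _) V.2] at hfw
    exact hfw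

lemma cmp_le_uh :
    RelProj.domQ (preQ ι hz.graded uh) pC' chartC' ≤ RelProj.domQ uh pC' chartC' := by
  refine iSup_le fun V => ?_
  rintro _ ⟨w, hw, rfl⟩
  obtain ⟨f, hf, hfw⟩ := (RelCone.mem_domOpen _ _).mp hw
  refine Opens.mem_iSup.mpr ⟨V, w, (RelCone.mem_domOpen _ _).mpr
    ⟨RelProj.gradedHomAt ι hz.graded V.1.1.1 V.1.1.2 f, ?_, hfw⟩, rfl⟩
  rw [HomogeneousIdeal.mem_iff, HomogeneousIdeal.mem_irrelevant_iff] at *
  rw [GradedRing.proj_apply, ← GradedRingHom.map_directSumDecompose, ← GradedRing.proj_apply, hf, map_zero]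

include hC hC' hΦh huh huhz in
theorem preimage_pointed {P' : Scheme.{u}} {p' : P' ⟶ Y'}
    {chart' : ∀ (U : Y'.Opens) (hU : IsAffineOpen U), (((p' ⁻¹ᵁ U : P'.Opens) : Scheme.{u}) ≅ Proj (𝒮'.deg U hU))}
    (hP' : RelProj.IsRelProj 𝒮' p' chart') :
    (RelProj.domQ uh pC' chartC').ι ''ᵁ (Φh ⁻¹ᵁ RelCone.pointedProjCone 𝒮 hz pC chartC) ≤
        RelCone.pointedProjCone 𝒮' hz' pC' chartC' ∧
      (RelProj.domQ u p' chart' = ⊤ →
        RelProj.domQ uh pC' chartC' = ⊤ ∧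
          (RelProj.domQ uh pC' chartC').ι ''ᵁ (Φh ⁻¹ᵁ RelCone.pointedProjCone 𝒮 hz pC chartC) =
            RelCone.pointedProjCone 𝒮' hz' pC' chartC') := by
  rw [pointedProjCone_eq_domQ hz hC, pointedProjCone_eq_domQ hz' hC']
  have h1 : (RelProj.domQ uh pC' chartC').ι ''ᵁ (Φh ⁻¹ᵁ RelProj.domQ (RelProj.QGrHom.ofHom ι hz.graded) pC chartC) ≤
      RelProj.domQ (RelProj.QGrHom.ofHom ι' hz'.graded) pC' chartC' := by
    rintro _ ⟨x, hx, rfl⟩
    exact cmp_le_ι' hz hz' huh ((mem_cmp_iff_pre hz hC hC' hΦh x).2 hx)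
  refine ⟨h1, fun htop => ?_⟩
  obtain ⟨r', hr', -⟩ := RelProjLib.existsUnique_qmap (RelProj.QGrHom.ofHom ι' hz'.graded) hP' hC'
  have hmem : RelProj.domQ (RelProj.QGrHom.ofHom ι' hz'.graded) pC' chartC' ≤
      RelProj.domQ (preQ ι hz.graded uh) pC' chartC' := fun x hx =>
    (mem_domQ_comp_iff u (RelProj.QGrHom.ofHom ι' hz'.graded) (preQ ι hz.graded uh) (Category.id_comp q).symm
      (fun U hU V' hV' W' hW' hle hle' hle'' => hc_ι' hz hz' huh U hU V' hV' W' hW' hle hle' hle'')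
      hP' hC' hr' ⟨x, hx⟩).2 (by rw [htop]; trivial)
  refine ⟨eq_top_iff.2 fun x _ => ?_, le_antisymm h1 fun x hx => ?_⟩
  · obtain ⟨U, U', hle, hxU⟩ := RelProjLib.exists_pair_mem (g := q) hC' x
    by_cases hx : x ∈ RelProj.domQ (RelProj.QGrHom.ofHom ι' hz'.graded) pC' chartC'
    · exact cmp_le_uh hz (hmem hx)
    obtain ⟨y, rfl⟩ : x ∈ Set.range (RelProj.emb pC' chartC' U'.1 U'.2) :=
      (RelProjLib.opensRange_emb (q := pC') (ch := chartC') U'.1 U'.2).ge hxU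
    rw [← pointedProjCone_eq_domQ hz' hC', emb_mem_pointed_iff hz' hC'] at hx
    refine Opens.mem_iSup.2 ⟨⟨(U, U'), hle⟩, y, (RelCone.mem_domOpen _ _).2
      ⟨RelCone.restrictTop 𝒮h z U.1, HomogeneousIdeal.mem_irrelevant_of_mem _ one_pos (hz.deg_z U.1 U.2), ?_⟩, rfl⟩
    rw [uh_z huhz U.1 U.2 U'.1 U'.2 hle]
    exact mem_basicOpen_z (isPoly hz' U'.1 U'.2) hx
  · exact ⟨⟨x, cmp_le_uh hz (hmem hx)⟩, (mem_cmp_iff_pre hz hC hC' hΦh ⟨x, _⟩).1 (hmem hx), rfl⟩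

include hC hC' hΦh huh in
theorem retraction_comm {P P' : Scheme.{u}} {p : P ⟶ Y}
    {chart : ∀ (U : Y.Opens) (hU : IsAffineOpen U), (((p ⁻¹ᵁ U : P.Opens) : Scheme.{u}) ≅ Proj (𝒮.deg U hU))}
    (hP : RelProj.IsRelProj 𝒮 p chart) {p' : P' ⟶ Y'}
    {chart' : ∀ (U : Y'.Opens) (hU : IsAffineOpen U), (((p' ⁻¹ᵁ U : P'.Opens) : Scheme.{u}) ≅ Proj (𝒮'.deg U hU))}
    (hP' : RelProj.IsRelProj 𝒮' p' chart')
    {Φ : ((RelProj.domQ u p' chart' : P'.Opens) : Scheme.{u}) ⟶ P}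
    (hΦ : RelProj.IsProjQMapOn u p chart p' chart' (RelProj.domQ u p' chart') Φ) :
    ∀ (W : PC.Opens) (_ : W = RelProj.domQ (RelProj.QGrHom.ofHom ι hz.graded) pC chartC)
      (W' : PC'.Opens) (_ : W' = RelProj.domQ (RelProj.QGrHom.ofHom ι' hz'.graded) pC' chartC')
      (r : (W : Scheme.{u}) ⟶ P)
      (_ : RelProj.IsProjQMapOn (RelProj.QGrHom.ofHom ι hz.graded) p chart pC chartC W r)
      (r' : (W' : Scheme.{u}) ⟶ P')
      (_ : RelProj.IsProjQMapOn (RelProj.QGrHom.ofHom ι' hz'.graded) p' chart' pC' chartC' W' r')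
      (T : Scheme.{u}) (a : T ⟶ (W' : Scheme.{u}))
      (b : T ⟶ ((RelProj.domQ uh pC' chartC' : PC'.Opens) : Scheme.{u})) (c : T ⟶ (W : Scheme.{u}))
      (_ : a ≫ W'.ι = b ≫ (RelProj.domQ uh pC' chartC').ι) (_ : b ≫ Φh = c ≫ W.ι),
      Set.range (a ≫ r').base ⊆ ((RelProj.domQ u p' chart' : P'.Opens) : Set P') ∧
        ∀ d : T ⟶ ((RelProj.domQ u p' chart' : P'.Opens) : Scheme.{u}),
          a ≫ r' = d ≫ (RelProj.domQ u p' chart').ι → c ≫ r = d ≫ Φ := by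
  rintro W rfl W' rfl r hr r' hr' T a b c hab hbc
  obtain ⟨Φc, hΦc, -⟩ := RelProjLib.existsUnique_qmap (preQ ι hz.graded uh) hP hC'
  have hsub : Set.range (b ≫ (RelProj.domQ uh pC' chartC').ι).base ⊆
      Set.range (RelProj.domQ (preQ ι hz.graded uh) pC' chartC').ι.base := by
    rw [Scheme.Opens.range_ι]
    rintro _ ⟨t, rfl⟩
    refine (mem_cmp_iff_pre hz hC hC' hΦh (b t)).2 ?_
    rw [← Scheme.Hom.comp_apply, hbc]
    exact (c t).2
  let e := IsOpenImmersion.lift (RelProj.domQ (preQ ι hz.graded uh) pC' chartC').ι _ hsub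
  have he : e ≫ (RelProj.domQ (preQ ι hz.graded uh) pC' chartC').ι = b ≫ (RelProj.domQ uh pC' chartC').ι :=
    IsOpenImmersion.lift_fac _ _ _
  have hA : e ≫ Φc = c ≫ r :=
    comp_apply_eq (RelProj.QGrHom.ofHom ι hz.graded) uh (preQ ι hz.graded uh) (Category.comp_id q).symm
      (fun U hU V hV V' hV' hle hle' hle'' => gradedAt_preQ ι hz.graded uh U hU V hV V' hV' hle hle' hle'')
      hC hC' hΦh hr hΦc b c e hbc he.symm
  refine ⟨?_, fun d hd => ?_⟩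
  · rintro _ ⟨t, rfl⟩
    refine (mem_domQ_comp_iff u (RelProj.QGrHom.ofHom ι' hz'.graded) (preQ ι hz.graded uh) (Category.id_comp q).symm
      (fun U hU V' hV' W' hW' hle hle' hle'' => hc_ι' hz hz' huh U hU V' hV' W' hW' hle hle' hle'')
      hP' hC' hr' (a t)).1 ?_
    rw [← Scheme.Hom.comp_apply, hab, ← he]
    exact (e t).2
  · exact hA.symm.trans
      (comp_apply_eq u (RelProj.QGrHom.ofHom ι' hz'.graded) (preQ ι hz.graded uh) (Category.id_comp q).symm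
        (fun U hU V' hV' W' hW' hle hle' hle'' => hc_ι' hz hz' huh U hU V' hV' W' hW' hle hle' hle'')
        hP' hC' hr' hΦ hΦc a d e hd (hab.trans he.symm))

omit hz hz' huh huhz hθ hθι hθz hθ' hθι' hθz' in
lemma isProjQMapOn_of_isProjQMap {S S' : Scheme.{u}} {g : S' ⟶ S} {𝒯 : RelProj.QCGrAlg S} {𝒯' : RelProj.QCGrAlg S'}
    {v : RelProj.QGrHom g 𝒯 𝒯'} {Q Q' : Scheme.{u}} {s : Q ⟶ S} {s' : Q' ⟶ S'}
    {c : ∀ (U : S.Opens) (hU : IsAffineOpen U), (((s ⁻¹ᵁ U : Q.Opens) : Scheme.{u}) ≅ Proj (𝒯.deg U hU))}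
    {c' : ∀ (U : S'.Opens) (hU : IsAffineOpen U), (((s' ⁻¹ᵁ U : Q'.Opens) : Scheme.{u}) ≅ Proj (𝒯'.deg U hU))}
    {j : Q' ⟶ Q} (hj : RelProj.IsProjQMap v s c s' c' j) :
    RelProj.IsProjQMapOn v s c s' c' (RelProj.domQ v s' c') ((RelProj.domQ v s' c').ι ≫ j) := by
  intro U hU U' hU' hle d hd f hf hW
  rw [← Category.assoc, IsOpenImmersion.lift_fac]
  exact hj.2 U hU U' hU' hle d hd f hf

include hC hC' hΦh huh huhz hθι hθz hθι' hθz' hz hz' in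
theorem infinity_comm {P P' : Scheme.{u}} {p : P ⟶ Y}
    {chart : ∀ (U : Y.Opens) (hU : IsAffineOpen U), (((p ⁻¹ᵁ U : P.Opens) : Scheme.{u}) ≅ Proj (𝒮.deg U hU))}
    (hP : RelProj.IsRelProj 𝒮 p chart) {p' : P' ⟶ Y'}
    {chart' : ∀ (U : Y'.Opens) (hU : IsAffineOpen U), (((p' ⁻¹ᵁ U : P'.Opens) : Scheme.{u}) ≅ Proj (𝒮'.deg U hU))}
    (hP' : RelProj.IsRelProj 𝒮' p' chart')
    {Φ : ((RelProj.domQ u p' chart' : P'.Opens) : Scheme.{u}) ⟶ P}
    (hΦ : RelProj.IsProjQMapOn u p chart p' chart' (RelProj.domQ u p' chart') Φ)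
    {jX : P ⟶ PC} (hjX : RelProj.IsProjQMap (RelProj.QGrHom.ofHom θ hθ) pC chartC p chart jX)
    {jX' : P' ⟶ PC'} (hjX' : RelProj.IsProjQMap (RelProj.QGrHom.ofHom θ' hθ') pC' chartC' p' chart' jX')
    (T : Scheme.{u}) (d : T ⟶ ((RelProj.domQ u p' chart' : P'.Opens) : Scheme.{u}))
    (e : T ⟶ ((RelProj.domQ uh pC' chartC' : PC'.Opens) : Scheme.{u}))
    (hde : d ≫ (RelProj.domQ u p' chart').ι ≫ jX' = e ≫ (RelProj.domQ uh pC' chartC').ι) :
    jX'.base '' ((RelProj.domQ u p' chart' : P'.Opens) : Set P') ⊆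
        ((RelProj.domQ uh pC' chartC' : PC'.Opens) : Set PC') ∧ e ≫ Φh = d ≫ Φ ≫ jX := by
  let k := preQ θ hθ u
  obtain ⟨Φk, hΦk, -⟩ := RelProjLib.existsUnique_qmap k hC hP'
  have hon := isProjQMapOn_of_isProjQMap hjX
  have hon' := isProjQMapOn_of_isProjQMap hjX'
  have hmem : ∀ y : (RelProj.domQ u p' chart' : P'.Opens).toScheme,
      (RelProj.domQ u p' chart').ι y ∈ RelProj.domQ k p' chart' := fun y =>
    (mem_domQ_comp_iff (RelProj.QGrHom.ofHom θ hθ) u k (Category.comp_id q).symm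
      (fun U hU V hV V' hV' hle hle' hle'' => gradedAt_preQ θ hθ u U hU V hV V' hV' hle hle' hle'')
      hP hP' hΦ y).2 (by rw [hjX.1]; trivial)
  have hcθ := fun U hU V' hV' W' hW' hle hle' hle'' =>
    hc_θ' hz hz' huh huhz hθ hθι hθz hθ' hθι' hθz' U hU V' hV' W' hW' hle hle' hle''
  constructor
  · rintro _ ⟨y, hy, rfl⟩
    have hy' : y ∈ RelProj.domQ (RelProj.QGrHom.ofHom θ' hθ') p' chart' := by rw [hjX'.1]; trivial
    exact (mem_domQ_comp_iff uh (RelProj.QGrHom.ofHom θ' hθ') k (Category.id_comp q).symm hcθ hC' hP' hon'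
      ⟨y, hy'⟩).1 (hmem ⟨y, hy⟩)
  · have s1 : Set.range (d ≫ (RelProj.domQ u p' chart').ι).base ⊆ Set.range (RelProj.domQ k p' chart').ι.base := by
      rw [Scheme.Opens.range_ι]
      rintro _ ⟨t, rfl⟩
      exact hmem (d t)
    let f := IsOpenImmersion.lift (RelProj.domQ k p' chart').ι _ s1
    have hf : f ≫ (RelProj.domQ k p' chart').ι = d ≫ (RelProj.domQ u p' chart').ι := IsOpenImmersion.lift_fac _ _ _
    have s2 : Set.range (d ≫ (RelProj.domQ u p' chart').ι).base ⊆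
        Set.range (RelProj.domQ (RelProj.QGrHom.ofHom θ' hθ') p' chart').ι.base := by
      rw [Scheme.Opens.range_ι, hjX'.1]
      exact fun _ _ => trivial
    let a' := IsOpenImmersion.lift (RelProj.domQ (RelProj.QGrHom.ofHom θ' hθ') p' chart').ι _ s2
    have ha' : a' ≫ (RelProj.domQ (RelProj.QGrHom.ofHom θ' hθ') p' chart').ι = d ≫ (RelProj.domQ u p' chart').ι :=
      IsOpenImmersion.lift_fac _ _ _
    have s3 : Set.range (d ≫ Φ).base ⊆ Set.range (RelProj.domQ (RelProj.QGrHom.ofHom θ hθ) p chart).ι.base := by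
      rw [Scheme.Opens.range_ι, hjX.1]
      exact fun _ _ => trivial
    let b' := IsOpenImmersion.lift (RelProj.domQ (RelProj.QGrHom.ofHom θ hθ) p chart).ι _ s3
    have hb' : b' ≫ (RelProj.domQ (RelProj.QGrHom.ofHom θ hθ) p chart).ι = d ≫ Φ := IsOpenImmersion.lift_fac _ _ _
    have h1 : f ≫ Φk = e ≫ Φh :=
      comp_apply_eq uh (RelProj.QGrHom.ofHom θ' hθ') k (Category.id_comp q).symm hcθ hC' hP' hon' hΦh hΦk a' e f
        (by rw [← Category.assoc, ha', Category.assoc]; exact hde) (ha'.trans hf.symm)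
    have h2 : f ≫ Φk = b' ≫ (RelProj.domQ (RelProj.QGrHom.ofHom θ hθ) p chart).ι ≫ jX :=
      comp_apply_eq (RelProj.QGrHom.ofHom θ hθ) u k (Category.comp_id q).symm
        (fun U hU V hV V' hV' hle hle' hle'' => gradedAt_preQ θ hθ u U hU V hV V' hV' hle hle' hle'')
        hP hP' hΦ hon hΦk d b' f hb'.symm hf.symm
    rw [← h1, h2, ← Category.assoc, hb', Category.assoc]

include hC hC' hΦh huh huhz in
theorem coneImm_comm {Φc : 𝒮'.toQCAlg.spec ⟶ 𝒮.toQCAlg.spec} (hΦc : RelSpec.IsSpecQMap u.toQHom Φc)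
    {i : 𝒮.toQCAlg.spec ⟶ PC} (hi : RelCone.IsConeImm 𝒮 hz pC chartC i)
    {i' : 𝒮'.toQCAlg.spec ⟶ PC'} (hi' : RelCone.IsConeImm 𝒮' hz' pC' chartC' i') :
    Set.range i'.base ⊆ ((RelProj.domQ uh pC' chartC' : PC'.Opens) : Set PC') ∧
      ∀ i'' : 𝒮'.toQCAlg.spec ⟶ ((RelProj.domQ uh pC' chartC' : PC'.Opens) : Scheme.{u}),
        i'' ≫ (RelProj.domQ uh pC' chartC').ι = i' → i'' ≫ Φh = Φc ≫ i := by
  constructor
  · rintro _ ⟨x, rfl⟩
    obtain ⟨U, U', hle, hxU⟩ := RelProjLib.exists_pair_mem (g := q) hC' (i' x)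
    obtain ⟨y, hy, e⟩ := (range_coneImm_inter hz' hC' hi' U'.1 U'.2).le ⟨⟨x, rfl⟩, hxU⟩
    rw [← e]
    refine Opens.mem_iSup.2 ⟨⟨(U, U'), hle⟩, y, (RelCone.mem_domOpen _ _).2
      ⟨RelCone.restrictTop 𝒮h z U.1, HomogeneousIdeal.mem_irrelevant_of_mem _ one_pos (hz.deg_z U.1 U.2), ?_⟩, rfl⟩
    rw [uh_z huhz U.1 U.2 U'.1 U'.2 hle]
    exact hy
  · intro i'' hi''
    refine RelSpecUP.hom_ext_cover _ fun x => ?_
    obtain ⟨U, hU, hxU, -⟩ :=
      exists_isAffineOpen_mem_and_subset (x := q (𝒮'.toQCAlg.π x)) (U := (⊤ : Y.Opens)) trivial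
    obtain ⟨U', hU', hxU', hle⟩ :=
      exists_isAffineOpen_mem_and_subset (x := 𝒮'.toQCAlg.π x) (U := q ⁻¹ᵁ U) hxU
    refine ⟨U', hU', (𝒮'.toQCAlg.π_preimage U' hU').le hxU', ?_⟩
    let h := isPoly hz U hU
    let h' := isPoly hz' U' hU'
    let ψh := uh.gradedAt U hU U' hU' hle
    let zU := RelCone.restrictTop 𝒮h z U
    have hψz : ψh zU = RelCone.restrictTop 𝒮h' z' U' := uh_z huhz U hU U' hU' hle
    have hunit : IsUnit (h'.ev 1 (ψh zU)) := by rw [hψz, IsPoly.ev_z]; exact isUnit_one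
    let χ := awayHom (ℬ := 𝒮h'.deg U' hU') (h'.ev 1) (ψh zU) hunit
    have hpiece : h'.piece = Spec.map (CommRingCat.ofHom χ) ≫
        Proj.awayι (𝒮h'.deg U' hU') (ψh zU) (ψh.2 h.mem) one_pos := by
      have hu : IsUnit (h'.ev 1 (RelCone.restrictTop 𝒮h' z' U')) := by rw [IsPoly.ev_z]; exact isUnit_one
      exact chartHom_eq (h'.ev 1) h'.mem one_pos (ψh.2 h.mem) one_pos hu hunit
    let c : RelProjLib.Idx (g := q) (𝒮 := 𝒮h) := ⟨U, hU, U', hU', hle, 1, one_pos, zU, h.mem⟩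
    have hlift : 𝒮'.toQCAlg.ι U' hU' ≫ i'' = Spec.map (CommRingCat.ofHom χ) ≫
        RelProjLib.srcLift uh pC' chartC' c := by
      rw [← cancel_mono (RelProj.domQ uh pC' chartC').ι, Category.assoc, hi'', Category.assoc,
        RelProjLib.srcLift_ι, (isConeImm_iff hz').1 hi' U' hU', pieceC, pieceAt, hpiece, Category.assoc]
      rfl
    have hring : χ.comp (Away.map ψh zU) = ((u.toQHom.appLE U U' hle).hom).comp h.awayTo := by
      refine RingHom.ext fun t => ?_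
      obtain ⟨n, b, hb, rfl⟩ := Away.mk_surjective (𝒮h.deg U hU) h.mem t
      refine (hunit.pow n).mul_left_inj.1 ?_
      rw [RingHom.comp_apply, Away.map_mk]
      refine (awayHom_mk _ _ _ n _ _).trans ?_
      rw [RingHom.comp_apply, IsPoly.awayTo_mk, hψz, IsPoly.ev_z, one_pow, mul_one]
      exact ev_one_uh hz hz' huh huhz U hU U' hU' hle b
    rw [← Category.assoc, hlift, Category.assoc, (RelProjLib.isProjQMapOn_iff uh Φh).1 hΦh c,
      ← Category.assoc (𝒮'.toQCAlg.ι U' hU'), hΦc U hU U' hU' hle, Category.assoc, (isConeImm_iff hz).1 hi U hU,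
      pieceC, pieceAt, IsPoly.piece]
    unfold RelProjLib.tgt
    rw [Category.assoc, ← Category.assoc, ← Category.assoc (Spec.map (u.toQHom.appLE U U' hle)), ← Spec.map_comp,
      ← Spec.map_comp]
    congr 2
    rw [← CommRingCat.ofHom_comp]
    exact CommRingCat.hom_ext hring

end Groth.Agent.ConeLib
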