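import Groth.Agent.ConeLib.Ring
import Groth.Agent.RelProjLib.QMapPre
import Groth.Agent.RelSpecUP.Basic

/-!
# The affine cone inside the projective cone, over any base
-/

set_option autoImplicit false
set_option linter.style.haveILetI false
set_option linter.unusedSectionVars false
set_option backward.isDefEq.respectTransparency false
set_option backward.isDefEq.respectTransparency.types false

universe u

open CategoryTheory CategoryTheory.Limits AlgebraicGeometry TopologicalSpace Opposite HomogeneousLocalization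

noncomputable section

namespace Groth.Agent.ConeLib

open Groth.Agent

variable {Y : Scheme.{u}} {𝒮 𝒮h : RelProj.QCGrAlg Y} {ι : 𝒮.toQCAlg ⟶ 𝒮h.toQCAlg}
  {z : 𝒮h.presheaf.obj (op ⊤)} (hz : RelCone.IsPolyOver 𝒮 𝒮h ι z)

include hz in
lemma isPoly (U : Y.Opens) (hU : IsAffineOpen U) :
    IsPoly (RelProj.gradedHomAt ι hz.graded U hU) (RelCone.restrictTop 𝒮h z U) :=
  ⟨hz.deg_z U hU, hz.bij U hU⟩

lemma awayTo_eq (U : Y.Opens) (hU : IsAffineOpen U) :
    (isPoly hz U hU).awayTo = hz.awayZToBase U hU := by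
  refine ((isPoly hz U hU).eq_awayTo _ fun q k x _ hq => ?_).symm
  exact (hz.awayZToBase_of_val U hU q _ k hq).trans (hz.evalOne_ι U hU x)

/-- the affine piece of the cone in the chart -/
def pieceAt (U : Y.Opens) (hU : IsAffineOpen U) :
    Spec (𝒮.presheaf.obj (op U)) ⟶ Proj (𝒮h.deg U hU) := (isPoly hz U hU).piece

lemma isOpenImmersion_pieceAt (U : Y.Opens) (hU : IsAffineOpen U) : IsOpenImmersion (pieceAt hz U hU) :=
  (isPoly hz U hU).isOpenImmersion_piece

lemma pieceAt_affBase (U : Y.Opens) (hU : IsAffineOpen U) :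
    pieceAt hz U hU ≫ RelProjLib.affBase 𝒮h U hU = Spec.map (𝒮.str.app (op U)) := by
  rw [RelProjLib.affBase_eq, pieceAt, ← Category.assoc, IsPoly.piece_toSpecZero, ← Spec.map_comp]
  congr 1
  refine CommRingCat.hom_ext (RingHom.ext fun c => ?_)
  have hι : (ι.hom.app (op U)).hom ((𝒮.str.app (op U)).hom c) = (𝒮h.str.app (op U)).hom c :=
    congr($(NatTrans.congr_app ι.comm (op U)) c)
  refine ((isPoly hz U hU).awayTo_fromZero ((𝒮h.strZero U hU).hom c)).trans ?_
  rw [RelProj.QCGrAlg.strZero_apply_coe, ← hι]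
  exact (isPoly hz U hU).ev_map 1 _

variable {PC : Scheme.{u}} {pC : PC ⟶ Y}
  {chartC : ∀ (U : Y.Opens) (hU : IsAffineOpen U), (((pC ⁻¹ᵁ U : PC.Opens) : Scheme.{u}) ≅ Proj (𝒮h.deg U hU))}

/-- the affine piece of the cone in the projective cone -/
def pieceC (pC : PC ⟶ Y)
    (chartC : ∀ (U : Y.Opens) (hU : IsAffineOpen U), (((pC ⁻¹ᵁ U : PC.Opens) : Scheme.{u}) ≅ Proj (𝒮h.deg U hU)))
    (U : Y.Opens) (hU : IsAffineOpen U) : Spec (𝒮.presheaf.obj (op U)) ⟶ PC :=
  pieceAt hz U hU ≫ RelProj.emb pC chartC U hU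

lemma isConeImm_iff {i : 𝒮.toQCAlg.spec ⟶ PC} :
    RelCone.IsConeImm 𝒮 hz pC chartC i ↔
      ∀ (U : Y.Opens) (hU : IsAffineOpen U), 𝒮.toQCAlg.ι U hU ≫ i = pieceC hz pC chartC U hU := by
  refine forall₂_congr fun U hU => ?_
  rw [pieceC, pieceAt, IsPoly.piece, awayTo_eq hz U hU, Category.assoc]

variable (hPC : RelProj.IsRelProj 𝒮h pC chartC)

include hPC in
lemma pieceC_pC (U : Y.Opens) (hU : IsAffineOpen U) :
    pieceC hz pC chartC U hU ≫ pC = Spec.map (𝒮.str.app (op U)) ≫ hU.fromSpec := by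
  rw [pieceC, Category.assoc, RelProjLib.emb_p hPC U hU, ← Category.assoc, pieceAt_affBase]

variable {i : 𝒮.toQCAlg.spec ⟶ PC} (hi : RelCone.IsConeImm 𝒮 hz pC chartC i)

include hPC hi in
lemma coneImm_over : i ≫ pC = 𝒮.toQCAlg.π := by
  refine RelSpecUP.hom_ext_charts _ fun U hU => ?_
  rw [← Category.assoc, (isConeImm_iff hz).1 hi U hU, pieceC_pC hz hPC, RelSpec.QCAlg.ι_π]

include hPC hi in
lemma coneImm_preimage (U : Y.Opens) (hU : IsAffineOpen U) :
    i ⁻¹ᵁ (pC ⁻¹ᵁ U) = (𝒮.toQCAlg.ι U hU).opensRange := by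
  rw [← Scheme.Hom.comp_preimage, coneImm_over hz hPC hi, RelSpec.QCAlg.π_preimage]

lemma pointedProjCone_eq_domQ (hPC : RelProj.IsRelProj 𝒮h pC chartC) :
    RelCone.pointedProjCone 𝒮 hz pC chartC =
      RelProj.domQ (RelProj.QGrHom.ofHom ι hz.graded) pC chartC := by
  have hkey : ∀ (U : Y.Opens) (hU : IsAffineOpen U),
      RelProj.domQ (RelProj.QGrHom.ofHom ι hz.graded) pC chartC ⊓ pC ⁻¹ᵁ U =
        RelProj.emb pC chartC U hU ''ᵁ RelCone.domOpen (RelProj.gradedHomAt ι hz.graded U hU) := fun U hU => by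
    rw [← RelProjLib.gradedAt_ofHom ι hz.graded U hU]
    exact RelProjLib.domQ_inf (g := 𝟙 Y) _ hPC hU hU (le_refl U)
  refine le_antisymm (iSup_le fun U => (hkey U.1 U.2).ge.trans inf_le_left) fun x hx => ?_
  obtain ⟨U, hU, hxU, -⟩ := exists_isAffineOpen_mem_and_subset (x := pC x) (U := (⊤ : Y.Opens)) trivial
  exact Opens.mem_iSup.2 ⟨⟨U, hU⟩, (hkey U hU).le ⟨hx, hxU⟩⟩

include hPC in
theorem pointedProjCone_inf (U : Y.Opens) (hU : IsAffineOpen U) :
    RelCone.pointedProjCone 𝒮 hz pC chartC ⊓ pC ⁻¹ᵁ U =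
      RelProj.emb pC chartC U hU ''ᵁ RelCone.domOpen (RelProj.gradedHomAt ι hz.graded U hU) := by
  rw [pointedProjCone_eq_domQ hz hPC, ← RelProjLib.gradedAt_ofHom ι hz.graded U hU]
  exact RelProjLib.domQ_inf (g := 𝟙 Y) _ hPC hU hU (le_refl U)

include hPC in
lemma emb_mem_pointed_iff (U : Y.Opens) (hU : IsAffineOpen U) (y : Proj (𝒮h.deg U hU)) :
    RelProj.emb pC chartC U hU y ∈ RelCone.pointedProjCone 𝒮 hz pC chartC ↔
      y ∈ RelCone.domOpen (RelProj.gradedHomAt ι hz.graded U hU) := by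
  constructor
  · intro hy
    have h1 : RelProj.emb pC chartC U hU y ∈ RelCone.pointedProjCone 𝒮 hz pC chartC ⊓ pC ⁻¹ᵁ U :=
      ⟨hy, (RelProjLib.opensRange_emb (q := pC) (ch := chartC) U hU).le ⟨y, rfl⟩⟩
    rw [pointedProjCone_inf hz hPC U hU] at h1
    obtain ⟨y', hy', e⟩ := h1
    rwa [(RelProj.emb pC chartC U hU).isOpenEmbedding.injective e] at hy'
  · intro hy
    exact Opens.mem_iSup.2 ⟨⟨U, hU⟩, y, hy, rfl⟩

section vertex

variable {aug : 𝒮.toQCAlg ⟶ RelSpec.QCAlg.unit Y} (h0 : RelCone.StrZeroBij 𝒮)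
  (haug : RelCone.IsAugmentation 𝒮 aug) {ε : Y ⟶ 𝒮.toQCAlg.spec} (hε : RelCone.IsVertex 𝒮 aug ε)

include h0 haug in
/-- `a ≡ aug(a)` modulo the irrelevant ideal. -/
lemma sub_str_aug_mem (U : Y.Opens) (hU : IsAffineOpen U) (a : 𝒮.presheaf.obj (op U)) :
    a - (𝒮.str.app (op U)).hom ((aug.hom.app (op U)).hom a) ∈
      (HomogeneousIdeal.irrelevant (𝒮.deg U hU)).toIdeal := by
  classical
  obtain ⟨c, hc⟩ := (h0 U hU).2 (DirectSum.decompose (𝒮.deg U hU) a 0)
  have hstr : (DirectSum.decompose (𝒮.deg U hU) a 0 : 𝒮.presheaf.obj (op U)) = (𝒮.str.app (op U)).hom c :=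
    (congrArg Subtype.val hc).symm
  have haug' : (aug.hom.app (op U)).hom a = c := by
    conv_lhs => rw [← DirectSum.sum_support_decompose (𝒮.deg U hU) a]
    rw [map_sum, Finset.sum_eq_single 0]
    · rw [hstr]
      exact congr($(NatTrans.congr_app aug.comm (op U)) c)
    · intro i _ hi
      obtain ⟨d, rfl⟩ : ∃ d, i = d + 1 := ⟨i - 1, by omega⟩
      exact haug U hU d _ (SetLike.coe_mem _)
    · intro h
      rw [DFinsupp.notMem_support_iff.1 h]
      simp
  change a - (𝒮.str.app (op U)).hom ((aug.hom.app (op U)).hom a) ∈ HomogeneousIdeal.irrelevant (𝒮.deg U hU)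
  rw [HomogeneousIdeal.mem_irrelevant_iff, map_sub, sub_eq_zero, GradedRing.proj_apply, GradedRing.proj_apply, haug',
    DirectSum.decompose_of_mem_same (𝒮.deg U hU) (𝒮.str_mem U hU c), hstr]

include haug in
lemma aug_eq_zero_of_mem (U : Y.Opens) (hU : IsAffineOpen U) {a : 𝒮.presheaf.obj (op U)}
    (ha : a ∈ (HomogeneousIdeal.irrelevant (𝒮.deg U hU)).toIdeal) : (aug.hom.app (op U)).hom a = 0 := by
  classical
  conv_lhs => rw [← DirectSum.sum_support_decompose (𝒮.deg U hU) a]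
  rw [map_sum]
  refine Finset.sum_eq_zero fun i _ => ?_
  rcases Nat.eq_zero_or_pos i with rfl | hi
  · rw [← GradedRing.proj_apply, (HomogeneousIdeal.mem_irrelevant_iff _ _).mp ha, map_zero]
  · obtain ⟨d, rfl⟩ : ∃ d, i = d + 1 := ⟨i - 1, by omega⟩
    exact haug U hU d _ (SetLike.coe_mem _)

include h0 haug in
/-- the vertex over an affine open is the zero locus of the irrelevant ideal -/
lemma range_aug (U : Y.Opens) (hU : IsAffineOpen U) :
    Set.range (Spec.map (aug.hom.app (op U))) =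
      PrimeSpectrum.zeroLocus ((HomogeneousIdeal.irrelevant (𝒮.deg U hU)).toIdeal : Set (𝒮.presheaf.obj (op U))) := by
  ext Q
  constructor
  · rintro ⟨P, rfl⟩ a ha
    change (aug.hom.app (op U)).hom a ∈ P.asIdeal
    rw [aug_eq_zero_of_mem haug U hU ha]
    exact P.asIdeal.zero_mem
  · intro hQ
    refine ⟨Spec.map (𝒮.str.app (op U)) Q, PrimeSpectrum.ext (Ideal.ext fun a => ?_)⟩
    change (𝒮.str.app (op U)).hom ((aug.hom.app (op U)).hom a) ∈ Q.asIdeal ↔ a ∈ Q.asIdeal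
    have h1 := hQ (sub_str_aug_mem h0 haug U hU a)
    exact ⟨fun h => (sub_add_cancel a _) ▸ Q.asIdeal.add_mem h1 h, fun h => by
      simpa using Q.asIdeal.sub_mem h h1⟩

include hε in
lemma vertex_chart_range (U : Y.Opens) (hU : IsAffineOpen U) :
    Set.range ε.base ∩ Set.range (𝒮.toQCAlg.ι U hU).base =
      (𝒮.toQCAlg.ι U hU).base '' Set.range (Spec.map (aug.hom.app (op U))) := by
  ext x
  constructor
  · rintro ⟨⟨y, rfl⟩, w, hw⟩
    have hy : y ∈ U := by
      have h1 : 𝒮.toQCAlg.π (ε y) ∈ U := by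
        have : ε y ∈ 𝒮.toQCAlg.π ⁻¹ᵁ U := by
          rw [RelSpec.QCAlg.π_preimage _ U hU]; exact ⟨w, hw⟩
        exact this
      rwa [← Scheme.Hom.comp_apply, hε.comp_π] at h1
    rw [← SetLike.mem_coe, ← hU.range_fromSpec] at hy
    obtain ⟨P, rfl⟩ := hy
    exact ⟨Spec.map (aug.hom.app (op U)) P, ⟨P, rfl⟩, congr($(hε.chart U hU) P).symm⟩
  · rintro ⟨_, ⟨P, rfl⟩, rfl⟩
    exact ⟨⟨hU.fromSpec P, by rw [← Scheme.Hom.comp_apply, hε.chart U hU, Scheme.Hom.comp_apply]; rfl⟩, _, rfl⟩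

include h0 haug hε in
/-- **the pointed cone is the complement of the vertex** -/
theorem pointedCone_eq_compl :
    ((RelCone.pointedCone 𝒮 : 𝒮.toQCAlg.spec.Opens) : Set 𝒮.toQCAlg.spec) = (Set.range ε.base)ᶜ := by
  ext x
  have hv : ∀ (U : Y.Opens) (hU : IsAffineOpen U) (w : Spec (𝒮.presheaf.obj (op U))),
      (𝒮.toQCAlg.ι U hU).base w ∈ Set.range ε.base ↔ w ∉ RelCone.vertexCompl (𝒮.deg U hU) := fun U hU w => by
    rw [show w ∉ RelCone.vertexCompl (𝒮.deg U hU) ↔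
      w ∈ Set.range (Spec.map (aug.hom.app (op U))) from by rw [range_aug h0 haug U hU]; exact not_not]
    constructor
    · intro h
      have h1 : (𝒮.toQCAlg.ι U hU).base w ∈ Set.range ε.base ∩ Set.range (𝒮.toQCAlg.ι U hU).base := ⟨h, w, rfl⟩
      rw [vertex_chart_range hε U hU] at h1
      obtain ⟨w', hw', e⟩ := h1
      rwa [(𝒮.toQCAlg.ι U hU).isOpenEmbedding.injective e] at hw'
    · intro h
      exact ((vertex_chart_range hε U hU).ge ⟨w, h, rfl⟩).1
  constructor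
  · intro hx hxε
    obtain ⟨U, w, hw, rfl⟩ := Opens.mem_iSup.1 hx
    exact (hv U.1 U.2 w).1 hxε hw
  · intro hx
    obtain ⟨U, hU, w, rfl⟩ := RelSpecUP.exists_mem_range_ι 𝒮.toQCAlg x
    exact Opens.mem_iSup.2 ⟨⟨U, hU⟩, w, not_not.1 fun h => hx ((hv U hU w).2 h), rfl⟩

include h0 haug hε hPC hi in
/-- **the pointed projective cone is the complement of the vertex** -/
theorem pointedProjCone_eq_compl :
    ((RelCone.pointedProjCone 𝒮 hz pC chartC : PC.Opens) : Set PC) = (Set.range (ε ≫ i).base)ᶜ := by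
  ext x
  constructor
  · rintro hx ⟨y, rfl⟩
    obtain ⟨U, hU, hyU, -⟩ := exists_isAffineOpen_mem_and_subset (x := y) (U := (⊤ : Y.Opens)) trivial
    rw [← SetLike.mem_coe, ← hU.range_fromSpec] at hyU
    obtain ⟨P, rfl⟩ := hyU
    rw [← Scheme.Hom.comp_apply, ← Category.assoc, hε.chart U hU, Category.assoc, (isConeImm_iff hz).1 hi U hU,
      pieceC, Scheme.Hom.comp_apply, Scheme.Hom.comp_apply, SetLike.mem_coe, emb_mem_pointed_iff hz hPC U hU,
      pieceAt] at hx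
    exact (piece_mem_domOpen_iff (isPoly hz U hU) _).1 hx fun a ha =>
      (range_aug h0 haug U hU).le ⟨P, rfl⟩ ha
  · intro hx
    obtain ⟨U, hU, hxU, -⟩ := exists_isAffineOpen_mem_and_subset (x := pC x) (U := (⊤ : Y.Opens)) trivial
    obtain ⟨y, rfl⟩ : x ∈ Set.range (RelProj.emb pC chartC U hU) :=
      (RelProjLib.opensRange_emb (q := pC) (ch := chartC) U hU).ge hxU
    rw [SetLike.mem_coe, emb_mem_pointed_iff hz hPC U hU]
    by_contra hy
    obtain ⟨Q, hQ, rfl⟩ := (compl_domOpen (isPoly hz U hU)).le hy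
    obtain ⟨P, rfl⟩ := (range_aug h0 haug U hU).ge hQ
    refine hx ⟨hU.fromSpec P, ?_⟩
    rw [← Scheme.Hom.comp_apply, ← Category.assoc, hε.chart U hU, Category.assoc, (isConeImm_iff hz).1 hi U hU]
    rfl

end vertex

end Groth.Agent.ConeLib
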