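import Groth.Agent.ConeLib.Imm
import Groth.Agent.RelProjLib.Map

/-!
# The part at infinity of the projective cone
-/

set_option autoImplicit false
set_option linter.style.haveILetI false
set_option linter.unusedSectionVars false
set_option backward.isDefEq.respectTransparency false
set_option backward.isDefEq.respectTransparency.types false

universe u

open CategoryTheory CategoryTheory.Limits AlgebraicGeometry TopologicalSpace Opposite HomogeneousIdeal

noncomputable section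

namespace Groth.Agent.ConeLib

open Groth.Agent

section ring

variable {A σ : Type u} [CommRing A] [SetLike σ A] [AddSubgroupClass σ A] {𝒜 : ℕ → σ} [GradedRing 𝒜]
variable {B τ : Type u} [CommRing B] [SetLike τ B] [AddSubgroupClass τ B] {ℬ : ℕ → τ} [GradedRing ℬ]
variable {φ : 𝒜 →+*ᵍ ℬ} {z : B}

/-- `ψ : A[z] → A`, `z ↦ 0`, has image the locus where `z` vanishes. -/
theorem range_map_retraction (h : IsPoly φ z) (ψ : ℬ →+*ᵍ 𝒜) (hψφ : ∀ a : A, ψ (φ a) = a) (hψz : ψ z = 0)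
    (hψ : HomogeneousIdeal.irrelevant 𝒜 ≤ (HomogeneousIdeal.irrelevant ℬ).map ψ) :
    Set.range (Proj.map ψ hψ).base = ((Proj.basicOpen ℬ z : Set (Proj ℬ)))ᶜ := by
  have hdec : ∀ b : B, φ (ψ b) - b ∈ Ideal.span {z} := fun b => by
    obtain ⟨P, rfl⟩ := h.bij.2 b
    simp only [Polynomial.coe_eval₂RingHom]
    induction P using Polynomial.induction_on with
    | C a =>
      rw [Polynomial.eval₂_C]
      change φ (ψ (φ a)) - φ a ∈ _
      rw [hψφ, sub_self]; exact Ideal.zero_mem _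
    | add p q hp hq =>
      simp only [Polynomial.eval₂_add, map_add]
      rw [add_sub_add_comm]
      exact Ideal.add_mem _ hp hq
    | monomial k a _ =>
      simp only [Polynomial.eval₂_mul, Polynomial.eval₂_X_pow, map_mul, map_pow, hψz,
        zero_pow (Nat.succ_ne_zero k), mul_zero, map_zero, zero_sub]
      exact (Ideal.neg_mem_iff _).2 (Ideal.mul_mem_left _ _ (Ideal.pow_mem_of_mem _ (Ideal.mem_span_singleton_self z) _
        (Nat.succ_pos k)))
  ext x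
  constructor
  · rintro ⟨y, rfl⟩ h'
    have h'' : y ∈ Proj.map ψ hψ ⁻¹ᵁ Proj.basicOpen ℬ z := h'
    rw [Proj.map_preimage_basicOpen, hψz, Proj.basicOpen_zero] at h''
    exact h''.elim
  · intro hx
    have hzx : z ∈ x.asHomogeneousIdeal.toIdeal := not_not.1 hx
    let q : HomogeneousIdeal 𝒜 := x.asHomogeneousIdeal.comap φ
    have hmem : ∀ b : B, b ∈ x.asHomogeneousIdeal.toIdeal ↔ ψ b ∈ q.toIdeal := fun b => by
      have hd : φ (ψ b) - b ∈ x.asHomogeneousIdeal.toIdeal :=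
        (Ideal.span_singleton_le_iff_mem _).2 hzx (hdec b)
      refine ⟨fun h => ?_, fun h => ?_⟩
      · have := Ideal.add_mem _ hd h; rwa [sub_add_cancel] at this
      · have := Ideal.sub_mem _ (show φ (ψ b) ∈ x.asHomogeneousIdeal.toIdeal from h) hd; rwa [sub_sub_cancel] at this
    have hirr : ¬ HomogeneousIdeal.irrelevant 𝒜 ≤ q := by
      intro hle
      refine x.not_irrelevant_le fun b hb => ?_
      refine (hmem b).2 (hle ?_)
      rw [HomogeneousIdeal.mem_irrelevant_iff, GradedRing.proj_apply]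
      rw [← GradedRingHom.map_directSumDecompose ℬ 𝒜 ψ, ← GradedRing.proj_apply,
        (HomogeneousIdeal.mem_irrelevant_iff _ _).mp hb, map_zero]
    let y : ProjectiveSpectrum 𝒜 := ⟨q, x.isPrime.comap φ.toRingHom, hirr⟩
    exact ⟨y, ProjectiveSpectrum.ext (HomogeneousIdeal.ext (Ideal.ext fun b => (hmem b).symm))⟩

end ring

variable {Y : Scheme.{u}} {𝒮 𝒮h : RelProj.QCGrAlg Y} {ι : 𝒮.toQCAlg ⟶ 𝒮h.toQCAlg}
  {z : 𝒮h.presheaf.obj (op ⊤)} (hz : RelCone.IsPolyOver 𝒮 𝒮h ι z)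
  {PC P : Scheme.{u}} {pC : PC ⟶ Y}
  {chartC : ∀ (U : Y.Opens) (hU : IsAffineOpen U), (((pC ⁻¹ᵁ U : PC.Opens) : Scheme.{u}) ≅ Proj (𝒮h.deg U hU))}
  (hPC : RelProj.IsRelProj 𝒮h pC chartC) {p : P ⟶ Y}
  {chart : ∀ (U : Y.Opens) (hU : IsAffineOpen U), (((p ⁻¹ᵁ U : P.Opens) : Scheme.{u}) ≅ Proj (𝒮.deg U hU))}
  (hP : RelProj.IsRelProj 𝒮 p chart)
  {θ : 𝒮h.toQCAlg ⟶ 𝒮.toQCAlg} {hθ : RelProj.IsGradedHom θ}
  {hirr : ∀ (U : Y.Opens) (hU : IsAffineOpen U),
      (𝒮.deg U hU)₊ ≤ ((𝒮h.deg U hU)₊).map (RelProj.gradedHomAt θ hθ U hU)}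
  {j : P ⟶ PC} (hj : RelProj.IsRelProjMap θ hθ hirr chartC chart j)

lemma retraction_apply (hιθ : ι ≫ θ = 𝟙 _) (U : Y.Opens) (a : 𝒮.presheaf.obj (op U)) :
    (θ.hom.app (op U)).hom ((ι.hom.app (op U)).hom a) = a := by
  exact congr($(congrArg (fun f => RelSpec.QCAlg.Hom.hom f) hιθ |> fun e => NatTrans.congr_app e (op U)) a)

lemma retraction_z (hθz : (θ.hom.app (op ⊤)).hom z = 0) (U : Y.Opens) :
    (θ.hom.app (op U)).hom (RelCone.restrictTop 𝒮h z U) = 0 := by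
  refine (ConcreteCategory.congr_hom (θ.hom.naturality (homOfLE (le_top : U ≤ ⊤)).op) z).trans ?_
  simp [hθz]

include hz hPC hP hj in
theorem range_infinity_inter (hιθ : ι ≫ θ = 𝟙 _) (hθz : (θ.hom.app (op ⊤)).hom z = 0)
    (U : Y.Opens) (hU : IsAffineOpen U) :
    Set.range j.base ∩ (pC ⁻¹ᵁ U : Set PC) =
      (RelProj.emb pC chartC U hU).base '' ((Proj.basicOpen (𝒮h.deg U hU) (RelCone.restrictTop 𝒮h z U) : Set _))ᶜ := by
  rw [← range_map_retraction (isPoly hz U hU) (RelProj.gradedHomAt θ hθ U hU) (retraction_apply hιθ U)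
    (retraction_z hθz U) (hirr U hU)]
  have hjp := RelProjLib.relProjMap_over hPC hP hj
  have hc := (RelProjLib.isRelProjMap_iff j).1 hj U hU
  ext x
  constructor
  · rintro ⟨⟨w, rfl⟩, hw⟩
    have h1 : w ∈ p ⁻¹ᵁ U := by rw [← hjp]; exact hw
    rw [← RelProjLib.opensRange_emb (q := p) (ch := chart) U hU] at h1
    obtain ⟨v, rfl⟩ := h1
    exact ⟨_, ⟨v, rfl⟩, (congr($hc v)).symm⟩
  · rintro ⟨_, ⟨v, rfl⟩, rfl⟩
    exact ⟨⟨_, congr($hc v)⟩, (RelProjLib.opensRange_emb (q := pC) (ch := chartC) U hU).le ⟨_, rfl⟩⟩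

include hPC hP hj in
theorem range_coneImm_eq_compl (hιθ : ι ≫ θ = 𝟙 _) (hθz : (θ.hom.app (op ⊤)).hom z = 0)
    {i : 𝒮.toQCAlg.spec ⟶ PC} (hi : RelCone.IsConeImm 𝒮 hz pC chartC i) :
    Set.range i.base = (Set.range j.base)ᶜ := by
  ext x
  obtain ⟨U, hU, hxU, -⟩ := exists_isAffineOpen_mem_and_subset (x := pC x) (U := (⊤ : Y.Opens)) trivial
  obtain ⟨y, rfl⟩ : x ∈ Set.range (RelProj.emb pC chartC U hU) :=
    (RelProjLib.opensRange_emb (q := pC) (ch := chartC) U hU).ge hxU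
  have hinj := (RelProj.emb pC chartC U hU).isOpenEmbedding.injective
  constructor
  · intro h1 h2
    obtain ⟨a, ha, ea⟩ := (range_coneImm_inter hz hPC hi U hU).le ⟨h1, hxU⟩
    obtain ⟨b, hb, eb⟩ := (range_infinity_inter hz hPC hP hj hιθ hθz U hU).le ⟨h2, hxU⟩
    rw [hinj ea] at ha
    rw [hinj eb] at hb
    exact hb ha
  · intro h1
    refine ((range_coneImm_inter hz hPC hi U hU).ge ⟨y, not_not.1 fun hy => h1 ?_, rfl⟩).1
    exact ((range_infinity_inter hz hPC hP hj hιθ hθz U hU).ge ⟨y, hy, rfl⟩).1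

end Groth.Agent.ConeLib
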