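import Groth.Agent.ConeLib.Retr

/-!
# The projection of the pointed affine cone
-/

set_option autoImplicit false
set_option linter.style.haveILetI false
set_option linter.unusedSectionVars false
set_option backward.isDefEq.respectTransparency false
set_option backward.isDefEq.respectTransparency.types false

universe u

open CategoryTheory CategoryTheory.Limits AlgebraicGeometry TopologicalSpace Opposite HomogeneousLocalization

noncomputable section

namespace Groth.Agent.ConeLib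

open Groth.Agent

section ring

variable {A σ : Type u} [CommRing A] [SetLike σ A] [AddSubgroupClass σ A] {𝒜 : ℕ → σ} [GradedRing 𝒜]
variable {B τ : Type u} [CommRing B] [SetLike τ B] [AddSubgroupClass τ B] {ℬ : ℕ → τ} [GradedRing ℬ]
variable {φ : 𝒜 →+*ᵍ ℬ} {z : B}

/-- `Spec A_f → Spec B₍φ f₎ → Spec A₍f₎` is surjective. -/
theorem surjective_pieceHom_comp (h : IsPoly φ z) {d : ℕ} {f : A} (hd : 0 < d) (hf : f ∈ 𝒜 d) :
    Surjective (Spec.map (CommRingCat.ofHom ((h.pieceHom (φ f)).comp (Away.map φ f)))) := by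
  have key : ∀ (a' : A) (_ : a' = f) (χ : Away 𝒜 f →+* Localization.Away a'),
      (∀ (n : ℕ) (a : A) (ha : a ∈ 𝒜 (n • d)),
        χ (Away.mk 𝒜 hf n a ha) * algebraMap A _ a' ^ n = algebraMap A _ a) →
      Surjective (Spec.map (CommRingCat.ofHom χ)) := by
    intro a' e χ hχ
    subst e
    rw [show χ = algebraMap (Away 𝒜 a') (Localization.Away a') from RingHom.ext fun q => by
      obtain ⟨n, a, ha, rfl⟩ := Away.mk_surjective 𝒜 hf q
      refine ((IsLocalization.Away.algebraMap_isUnit (S := Localization.Away a') a').pow n).mul_left_inj.1 ?_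
      rw [hχ, HomogeneousLocalization.algebraMap_apply, Away.val_mk, Localization.mk_eq_mk', ← map_pow,
        IsLocalization.mk'_spec]]
    exact surjective_map_algebraMap hf hd
  refine key _ (h.ev_map 1 f) _ fun n a ha => ?_
  rw [RingHom.comp_apply, Away.map_mk]
  refine (awayHom_mk (ℬ := ℬ) _ (φ.2 hf) _ n _ _).trans ?_
  exact congrArg (algebraMap A (Localization.Away (h.ev 1 (φ f)))) (h.ev_map 1 a)

end ring

variable {Y : Scheme.{u}} {𝒮 𝒮h : RelProj.QCGrAlg Y} {ι : 𝒮.toQCAlg ⟶ 𝒮h.toQCAlg}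
  {z : 𝒮h.presheaf.obj (op ⊤)} (hz : RelCone.IsPolyOver 𝒮 𝒮h ι z)
  {PC P : Scheme.{u}} {pC : PC ⟶ Y}
  {chartC : ∀ (U : Y.Opens) (hU : IsAffineOpen U), (((pC ⁻¹ᵁ U : PC.Opens) : Scheme.{u}) ≅ Proj (𝒮h.deg U hU))}
  (hPC : RelProj.IsRelProj 𝒮h pC chartC) {p : P ⟶ Y}
  {chart : ∀ (U : Y.Opens) (hU : IsAffineOpen U), (((p ⁻¹ᵁ U : P.Opens) : Scheme.{u}) ≅ Proj (𝒮.deg U hU))}
  (hP : RelProj.IsRelProj 𝒮 p chart)
  {i : 𝒮.toQCAlg.spec ⟶ PC} (hi : RelCone.IsConeImm 𝒮 hz pC chartC i)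

include hPC hi in
theorem preimage_pointedProjCone :
    i ⁻¹ᵁ RelCone.pointedProjCone 𝒮 hz pC chartC = RelCone.pointedCone 𝒮 := by
  have key : ∀ (U : Y.Opens) (hU : IsAffineOpen U) (w : Spec (𝒮.presheaf.obj (op U))),
      𝒮.toQCAlg.ι U hU w ∈ i ⁻¹ᵁ RelCone.pointedProjCone 𝒮 hz pC chartC ↔
        w ∈ RelCone.vertexCompl (𝒮.deg U hU) := fun U hU w => by
    change i (𝒮.toQCAlg.ι U hU w) ∈ RelCone.pointedProjCone 𝒮 hz pC chartC ↔ _
    rw [← Scheme.Hom.comp_apply, (isConeImm_iff hz).1 hi U hU, pieceC, Scheme.Hom.comp_apply,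
      emb_mem_pointed_iff hz hPC]
    exact (piece_mem_domOpen_iff (isPoly hz U hU) w).trans Iff.rfl
  refine Opens.ext (Set.ext fun x => ⟨fun hx => ?_, fun hx => ?_⟩)
  · obtain ⟨U, hU, w, rfl⟩ := RelSpecUP.exists_mem_range_ι 𝒮.toQCAlg x
    exact Opens.mem_iSup.2 ⟨⟨U, hU⟩, w, (key U hU w).1 hx, rfl⟩
  · obtain ⟨U, w, hw, rfl⟩ := Opens.mem_iSup.1 hx
    exact (key U.1 U.2 w).2 hw

variable {r : ((RelCone.pointedProjCone 𝒮 hz pC chartC : PC.Opens) : Scheme.{u}) ⟶ P}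
  (hr : IsRetr hz pC chartC p chart (RelCone.pointedProjCone 𝒮 hz pC chartC) r)
  {i' : ((RelCone.pointedCone 𝒮 : 𝒮.toQCAlg.spec.Opens) : Scheme.{u}) ⟶
      ((RelCone.pointedProjCone 𝒮 hz pC chartC : PC.Opens) : Scheme.{u})}
  (hi' : i' ≫ (RelCone.pointedProjCone 𝒮 hz pC chartC).ι = (RelCone.pointedCone 𝒮).ι ≫ i)

include hPC hi hi' in
theorem isPullback_pointed :
    IsPullback i' (RelCone.pointedCone 𝒮).ι (RelCone.pointedProjCone 𝒮 hz pC chartC).ι i := by
  refine IsOpenImmersion.isPullback _ _ _ _ hi'.symm ?_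
  rw [Scheme.Opens.opensRange_ι, Scheme.Opens.opensRange_ι, preimage_pointedProjCone hz hPC hi]

include hPC hP hi hr hi' in
theorem isAffineHom_proj : IsAffineHom (i' ≫ r) := by
  haveI := isAffineHom_coneImm hz hPC hi
  haveI : IsAffineHom i' := MorphismProperty.of_isPullback (isPullback_pointed hz hPC hi hi').flip inferInstance
  haveI := ((retr_pointed hz hPC hP).2 r hr).1
  infer_instance

include hPC hP hi hr hi' in
theorem surjective_proj : Function.Surjective (i' ≫ r).base := by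
  intro x
  obtain ⟨U, hU, hxU, -⟩ := exists_isAffineOpen_mem_and_subset (x := p x) (U := (⊤ : Y.Opens)) trivial
  obtain ⟨y, rfl⟩ : x ∈ Set.range (RelProj.emb p chart U hU) :=
    (RelProjLib.opensRange_emb (q := p) (ch := chart) U hU).ge hxU
  obtain ⟨s, q, rfl⟩ : ∃ (s : Σ i : PNat, 𝒮.deg U hU i) (q : _),
      Proj.awayι (𝒮.deg U hU) (s.2 : 𝒮.presheaf.obj (op U)) s.2.2 s.1.2 q = y :=
    ⟨_, ((Proj.affineOpenCover (𝒮.deg U hU)).openCover.exists_eq y).choose_spec⟩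
  obtain ⟨⟨d, hd⟩, f, hf⟩ := s
  let φ := RelProj.gradedHomAt ι hz.graded U hU
  let h : IsPoly φ (RelCone.restrictTop 𝒮h z U) := isPoly hz U hU
  obtain ⟨v, rfl⟩ := (surjective_pieceHom_comp h hd hf).surj q
  let w : Spec (𝒮.presheaf.obj (op U)) :=
    Spec.map (CommRingCat.ofHom (algebraMap (𝒮.presheaf.obj (op U)) (Localization.Away (h.ev 1 (φ f))))) v
  have hw : w ∈ RelCone.vertexCompl (𝒮.deg U hU) := fun hall => by
    have h1 : (h.ev 1 (φ f)) ∈ w.asIdeal := by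
      rw [h.ev_map]
      exact hall (HomogeneousIdeal.mem_irrelevant_of_mem _ hd hf)
    exact (PrimeSpectrum.localization_away_comap_range (Localization.Away (h.ev 1 (φ f))) (h.ev 1 (φ f))).le
      ⟨v, rfl⟩ h1
  let q' : Spec (CommRingCat.of (Away (𝒮h.deg U hU) (φ f))) := Spec.map (CommRingCat.ofHom (h.pieceHom (φ f))) v
  have hsub : Set.range (Proj.awayι (𝒮h.deg U hU) (φ f) (φ.2 hf) hd ≫ RelProj.emb pC chartC U hU).base ⊆
      Set.range (RelCone.pointedProjCone 𝒮 hz pC chartC).ι.base := by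
    rw [Scheme.Opens.range_ι, pointedProjCone_eq_domQ hz hPC]
    exact (awayι_emb_range_subset hz hPC U hU hd hf).trans (Scheme.Opens.range_ι _).le
  let g := IsOpenImmersion.lift (RelCone.pointedProjCone 𝒮 hz pC chartC).ι _ hsub
  refine ⟨⟨𝒮.toQCAlg.ι U hU w, Opens.mem_iSup.2 ⟨⟨U, hU⟩, w, hw, rfl⟩⟩, ?_⟩
  have e : i' ⟨𝒮.toQCAlg.ι U hU w, Opens.mem_iSup.2 ⟨⟨U, hU⟩, w, hw, rfl⟩⟩ = g q' := by
    apply (RelCone.pointedProjCone 𝒮 hz pC chartC).ι.isOpenEmbedding.injective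
    rw [← Scheme.Hom.comp_apply, hi', ← Scheme.Hom.comp_apply, IsOpenImmersion.lift_fac]
    change i (𝒮.toQCAlg.ι U hU w) = _
    rw [← Scheme.Hom.comp_apply, (isConeImm_iff hz).1 hi U hU, pieceC, Scheme.Hom.comp_apply]
    refine congrArg (RelProj.emb pC chartC U hU) ?_
    exact (congr($(h.piece_square hd (φ.2 hf)) v)).symm
  rw [Scheme.Hom.comp_base, TopCat.coe_comp, Function.comp_apply, e]
  refine (congr($(hr U hU d hd f hf g (IsOpenImmersion.lift_fac _ _ _)) q')).trans ?_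
  refine congrArg (fun t => RelProj.emb p chart U hU (Proj.awayι _ f hf hd t)) ?_
  rw [CommRingCat.ofHom_comp, Spec.map_comp]
  rfl

end Groth.Agent.ConeLib
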