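import Groth.Agent.RelProjLib.QMapPre

/-!
# Composition of the partial morphisms `Proj(u)` over arbitrary base morphisms
-/

set_option autoImplicit false
set_option linter.style.haveILetI false
set_option linter.unusedSectionVars false
set_option backward.isDefEq.respectTransparency false
set_option backward.isDefEq.respectTransparency.types false

universe u

open CategoryTheory CategoryTheory.Limits AlgebraicGeometry TopologicalSpace Opposite HomogeneousLocalization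

noncomputable section

namespace Groth.Agent.ConeLib

open Groth.Agent

variable {S S' S'' : Scheme.{u}} {g : S' ⟶ S} {g' : S'' ⟶ S'} {g'' : S'' ⟶ S}
  {𝒯 : RelProj.QCGrAlg S} {𝒮 : RelProj.QCGrAlg S'} {𝒮'' : RelProj.QCGrAlg S''}
  (u : RelProj.QGrHom g 𝒯 𝒮) (w : RelProj.QGrHom g' 𝒮 𝒮'') (uw : RelProj.QGrHom g'' 𝒯 𝒮'')
  (hg : g'' = g' ≫ g)
  (hc : ∀ (U : S.Opens) (hU : IsAffineOpen U) (U' : S'.Opens) (hU' : IsAffineOpen U') (U'' : S''.Opens)
    (hU'' : IsAffineOpen U'') (hle : U' ≤ g ⁻¹ᵁ U) (hle' : U'' ≤ g' ⁻¹ᵁ U') (hle'' : U'' ≤ g'' ⁻¹ᵁ U),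
    uw.gradedAt U hU U'' hU'' hle'' = (w.gradedAt U' hU' U'' hU'' hle').comp (u.gradedAt U hU U' hU' hle))
  {P P' P'' : Scheme.{u}} {qT : P ⟶ S} {q' : P' ⟶ S'} {q'' : P'' ⟶ S''}
  {chT : ∀ (U : S.Opens) (hU : IsAffineOpen U), ((qT ⁻¹ᵁ U : P.Opens) : Scheme.{u}) ≅ Proj (𝒯.deg U hU)}
  {ch' : ∀ (U : S'.Opens) (hU : IsAffineOpen U), ((q' ⁻¹ᵁ U : P'.Opens) : Scheme.{u}) ≅ Proj (𝒮.deg U hU)}
  {ch'' : ∀ (U : S''.Opens) (hU : IsAffineOpen U), ((q'' ⁻¹ᵁ U : P''.Opens) : Scheme.{u}) ≅ Proj (𝒮''.deg U hU)}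
  (hP' : RelProj.IsRelProj 𝒮 q' ch') (hP'' : RelProj.IsRelProj 𝒮'' q'' ch'')
  {Φw : (RelProj.domQ w q'' ch'' : P''.Opens).toScheme ⟶ P'}
  (hw : RelProj.IsProjQMapOn w q' ch' q'' ch'' (RelProj.domQ w q'' ch'') Φw)
  {Φu : (RelProj.domQ u q' ch' : P'.Opens).toScheme ⟶ P}
  (hu : RelProj.IsProjQMapOn u qT chT q' ch' (RelProj.domQ u q' ch') Φu)
  {Φuw : (RelProj.domQ uw q'' ch'' : P''.Opens).toScheme ⟶ P}
  (huw : RelProj.IsProjQMapOn uw qT chT q'' ch'' (RelProj.domQ uw q'' ch'') Φuw)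

include hg hP' hP'' hw in
/-- an affine triple around a point of the domain of `w` -/
lemma exists_triple (x : (RelProj.domQ w q'' ch'' : P''.Opens).toScheme) :
    ∃ (U : S.Opens) (_ : IsAffineOpen U) (U' : S'.Opens) (_ : IsAffineOpen U') (U'' : S''.Opens)
      (_ : IsAffineOpen U''), U' ≤ g ⁻¹ᵁ U ∧ U'' ≤ g' ⁻¹ᵁ U' ∧ U'' ≤ g'' ⁻¹ᵁ U ∧
        q'' ((RelProj.domQ w q'' ch'').ι x) ∈ U'' ∧ q' (Φw x) ∈ U' := by
  have hover := RelProjLib.qmap_over w hP' hP'' hw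
  obtain ⟨U, U', hle, hy⟩ := RelProjLib.exists_pair_mem (g := g) hP' (Φw x)
  have hy' : q'' ((RelProj.domQ w q'' ch'').ι x) ∈ g' ⁻¹ᵁ U'.1 := by
    show g' (q'' ((RelProj.domQ w q'' ch'').ι x)) ∈ U'.1
    rw [← Scheme.Hom.comp_apply, ← Scheme.Hom.comp_apply, ← hover, Scheme.Hom.comp_apply]
    exact hy
  obtain ⟨U'', hU'', hxU, hle'⟩ := exists_isAffineOpen_mem_and_subset hy'
  refine ⟨U.1, U.2, U'.1, U'.2, U'', hU'', hle, hle', fun t ht => ?_, hxU, hy⟩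
  show g'' t ∈ U.1
  rw [hg, Scheme.Hom.comp_apply]
  exact hle (hle' ht)

include hg hc hP' hP'' hw in
/-- `G(w ∘ u) ∩ G(w) = Proj(w)⁻¹ G(u)` -/
theorem mem_domQ_comp_iff (x : (RelProj.domQ w q'' ch'' : P''.Opens).toScheme) :
    (RelProj.domQ w q'' ch'').ι x ∈ RelProj.domQ uw q'' ch'' ↔ Φw x ∈ RelProj.domQ u q' ch' := by
  obtain ⟨U, hU, U', hU', U'', hU'', hle, hle', hle'', hx, hy⟩ := exists_triple w hg hP' hP'' hw x
  constructor
  · intro h
    obtain ⟨d, hd, f, hf, hm⟩ := RelProjLib.exists_idx_of_mem uw hP'' h hU hU'' hle'' hx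
    rw [RelProjLib.opensRange_src, hc U hU U' hU' U'' hU'' hle hle' hle''] at hm
    obtain ⟨y, hy', e⟩ :=
      (RelProjLib.mem_preimage_iff w hP'' hw hU' hU'' hle' hd (Graded.map_mem (u.gradedAt U hU U' hU' hle) hf) x hx).2 hm
    rw [← e]
    exact Opens.mem_iSup.2 ⟨⟨(⟨U, hU⟩, ⟨U', hU'⟩), hle⟩, y,
      (RelCone.mem_domOpen _ _).2 ⟨f, HomogeneousIdeal.mem_irrelevant_of_mem _ hd hf, hy'⟩, rfl⟩
  · intro h
    obtain ⟨d, hd, f, hf, hm⟩ := RelProjLib.exists_idx_of_mem u hP' h hU hU' hle hy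
    rw [RelProjLib.opensRange_src] at hm
    obtain ⟨y, hy', e⟩ :=
      (RelProjLib.mem_preimage_iff w hP'' hw hU' hU'' hle' hd (Graded.map_mem (u.gradedAt U hU U' hU' hle) hf) x hx).1 hm
    rw [← e]
    refine Opens.mem_iSup.2 ⟨⟨(⟨U, hU⟩, ⟨U'', hU''⟩), hle''⟩, y,
      (RelCone.mem_domOpen _ _).2 ⟨f, HomogeneousIdeal.mem_irrelevant_of_mem _ hd hf, ?_⟩, rfl⟩
    rw [hc U hU U' hU' U'' hU'' hle hle' hle'']
    exact hy'

include hg hc hP' hP'' hw hu huw in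
/-- `Proj(w ∘ u) = Proj(w) ≫ Proj(u)` -/
theorem comp_apply_eq {T : Scheme.{u}} (a : T ⟶ (RelProj.domQ w q'' ch'' : P''.Opens).toScheme)
    (d : T ⟶ (RelProj.domQ u q' ch' : P'.Opens).toScheme)
    (e : T ⟶ (RelProj.domQ uw q'' ch'' : P''.Opens).toScheme)
    (had : a ≫ Φw = d ≫ (RelProj.domQ u q' ch').ι)
    (hae : a ≫ (RelProj.domQ w q'' ch'').ι = e ≫ (RelProj.domQ uw q'' ch'').ι) :
    e ≫ Φuw = d ≫ Φu := by
  have hloc : ∀ t : T, ∃ O : T.Opens, t ∈ O ∧ O.ι ≫ e ≫ Φuw = O.ι ≫ d ≫ Φu := by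
    intro t
    obtain ⟨U, hU, U', hU', U'', hU'', hle, hle', hle'', hx, hy⟩ := exists_triple w hg hP' hP'' hw (a t)
    have hat : Φw (a t) = (RelProj.domQ u q' ch').ι (d t) := congr($had t)
    obtain ⟨n, hn, f, hf, hm⟩ := RelProjLib.exists_idx_of_mem u hP'
      (show Φw (a t) ∈ RelProj.domQ u q' ch' by rw [hat]; exact (d t).2) hU hU' hle hy
    rw [RelProjLib.opensRange_src] at hm
    have hm2 := (RelProjLib.mem_preimage_iff w hP'' hw hU' hU'' hle' hn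
      (Graded.map_mem (u.gradedAt U hU U' hU' hle) hf) (a t) hx).1 hm
    let cu : RelProjLib.Idx (g := g) (𝒮 := 𝒯) := ⟨U, hU, U', hU', hle, n, hn, f, hf⟩
    let cw : RelProjLib.Idx (g := g') (𝒮 := 𝒮) :=
      ⟨U', hU', U'', hU'', hle', n, hn, u.gradedAt U hU U' hU' hle f, Graded.map_mem _ hf⟩
    let c : RelProjLib.Idx (g := g'') (𝒮 := 𝒯) := ⟨U, hU, U'', hU'', hle'', n, hn, f, hf⟩
    let O : T.Opens := (a ≫ (RelProj.domQ w q'' ch'').ι) ⁻¹ᵁ (RelProjLib.src w q'' ch'' cw).opensRange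
    have htO : t ∈ O := by
      show (a ≫ (RelProj.domQ w q'' ch'').ι) t ∈ (RelProjLib.src w q'' ch'' cw).opensRange
      rw [RelProjLib.opensRange_src]
      exact hm2
    let k := IsOpenImmersion.lift (RelProjLib.src w q'' ch'' cw) (O.ι ≫ a ≫ (RelProj.domQ w q'' ch'').ι)
      (by rintro _ ⟨s, rfl⟩; exact s.2)
    have hk : k ≫ RelProjLib.src w q'' ch'' cw = O.ι ≫ a ≫ (RelProj.domQ w q'' ch'').ι :=
      IsOpenImmersion.lift_fac _ _ _
    have hka : O.ι ≫ a = k ≫ RelProjLib.srcLift w q'' ch'' cw := by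
      rw [← cancel_mono (RelProj.domQ w q'' ch'').ι, Category.assoc, Category.assoc, RelProjLib.srcLift_ι, hk]
    have hkd : O.ι ≫ d = k ≫ Spec.map (CommRingCat.ofHom
        (Away.map (w.gradedAt U' hU' U'' hU'' hle') (u.gradedAt U hU U' hU' hle f))) ≫
        RelProjLib.srcLift u q' ch' cu := by
      rw [← cancel_mono (RelProj.domQ u q' ch').ι, Category.assoc, ← had, ← Category.assoc, hka, Category.assoc,
        (RelProjLib.isProjQMapOn_iff w Φw).1 hw cw, Category.assoc, Category.assoc, RelProjLib.srcLift_ι]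
      rfl
    refine ⟨O, htO, ?_⟩
    rw [← Category.assoc O.ι d, hkd, Category.assoc, Category.assoc,
      (RelProjLib.isProjQMapOn_iff u Φu).1 hu cu]
    have key : ∀ (χ : 𝒯.deg U hU →+*ᵍ 𝒮''.deg U'' hU'')
        (_ : χ = (w.gradedAt U' hU' U'' hU'' hle').comp (u.gradedAt U hU U' hU' hle))
        (k' : O.toScheme ⟶ Spec (CommRingCat.of (Away (𝒮''.deg U'' hU'') (χ f)))),
        k' ≫ Proj.awayι (𝒮''.deg U'' hU'') (χ f) (Graded.map_mem χ hf) hn ≫ RelProj.emb q'' ch'' U'' hU'' =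
          k ≫ RelProjLib.src w q'' ch'' cw →
        k' ≫ Spec.map (CommRingCat.ofHom (Away.map χ f)) ≫ Proj.awayι (𝒯.deg U hU) f hf hn ≫
            RelProj.emb qT chT U hU =
          k ≫ Spec.map (CommRingCat.ofHom
            (Away.map (w.gradedAt U' hU' U'' hU'' hle') (u.gradedAt U hU U' hU' hle f))) ≫
            RelProjLib.tgt u qT chT cu := by
      intro χ e k' hk'
      subst e
      obtain rfl : k' = k := by
        rw [← cancel_mono (RelProjLib.src w q'' ch'' cw)]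
        exact hk'
      unfold RelProjLib.tgt
      rw [Away.map_comp, CommRingCat.ofHom_comp, Spec.map_comp]
      simp only [Category.assoc]
      rfl
    let k' := IsOpenImmersion.lift (RelProjLib.src uw q'' ch'' c) (O.ι ≫ a ≫ (RelProj.domQ w q'' ch'').ι) (by
      rintro _ ⟨s, rfl⟩
      have h1 : (O.ι ≫ a ≫ (RelProj.domQ w q'' ch'').ι) s ∈ (RelProjLib.src w q'' ch'' cw).opensRange := s.2
      rw [RelProjLib.opensRange_src] at h1
      change _ ∈ ((RelProjLib.src uw q'' ch'' c).opensRange : Set P'')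
      rw [RelProjLib.opensRange_src, hc U hU U' hU' U'' hU'' hle hle' hle'']
      exact h1)
    have hk' : k' ≫ RelProjLib.src uw q'' ch'' c = O.ι ≫ a ≫ (RelProj.domQ w q'' ch'').ι :=
      IsOpenImmersion.lift_fac _ _ _
    have hke : O.ι ≫ e = k' ≫ RelProjLib.srcLift uw q'' ch'' c := by
      rw [← cancel_mono (RelProj.domQ uw q'' ch'').ι, Category.assoc, Category.assoc, RelProjLib.srcLift_ι, hk', hae]
    rw [← Category.assoc O.ι e, hke, Category.assoc, (RelProjLib.isProjQMapOn_iff uw Φuw).1 huw c]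
    exact key _ (hc U hU U' hU' U'' hU'' hle hle' hle'') k' (hk'.trans hk.symm)
  choose O htO hO using hloc
  exact (T.openCoverOfIsOpenCover O (.mk (eq_top_iff.mpr fun t _ => Opens.mem_iSup.mpr ⟨t, htO t⟩))).hom_ext _ _ hO

end Groth.Agent.ConeLib
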