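import Groth.Agent.ConeLib.Imm
import Groth.Agent.S12139
import Groth.Agent.S12140
import Groth.Agent.RelProjLib.Map

/-!
# The canonical retraction of the pointed projective cone
-/

set_option autoImplicit false
set_option linter.style.haveILetI false
set_option linter.unusedSectionVars false
set_option backward.isDefEq.respectTransparency false
set_option backward.isDefEq.respectTransparency.types false

universe u

open CategoryTheory CategoryTheory.Limits AlgebraicGeometry TopologicalSpace Opposite HomogeneousLocalization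
open scoped HomogeneousIdeal

noncomputable section

namespace Groth.Agent.ConeLib

open Groth.Agent

section ring

variable {A σ : Type u} [CommRing A] [SetLike σ A] [AddSubgroupClass σ A] {𝒜 : ℕ → σ} [GradedRing 𝒜]
variable {B τ : Type u} [CommRing B] [SetLike τ B] [AddSubgroupClass τ B] {ℬ : ℕ → τ} [GradedRing ℬ]

theorem map_retraction_awayι (φ : 𝒜 →+*ᵍ ℬ) (ψ : ℬ →+*ᵍ 𝒜) (hψφ : ∀ a : A, ψ (φ a) = a)
    {d : ℕ} (hd : 0 < d) {f : A} (hf : f ∈ 𝒜 d) :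
    Spec.map (CommRingCat.ofHom (Away.map ψ (φ f))) ≫ Spec.map (CommRingCat.ofHom (Away.map φ f)) ≫
        Proj.awayι 𝒜 f hf hd =
      Proj.awayι 𝒜 (ψ (φ f)) (ψ.2 (φ.2 hf)) hd := by
  have key : ∀ (g : A) (hg : g ∈ 𝒜 d) (_ : g = f) (χ : Away ℬ (φ f) →+* Away 𝒜 g),
      (∀ (n : ℕ) (a : A) (ha : a ∈ 𝒜 (n • d)), χ (Away.map φ f (Away.mk 𝒜 hf n a ha)) = Away.mk 𝒜 hg n a ha) →
      Spec.map (CommRingCat.ofHom χ) ≫ Spec.map (CommRingCat.ofHom (Away.map φ f)) ≫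
        Proj.awayι 𝒜 f hf hd = Proj.awayι 𝒜 g hg hd := by
    intro g hg e χ hχ
    subst e
    rw [← Category.assoc, ← Spec.map_comp, ← CommRingCat.ofHom_comp,
      show χ.comp (Away.map φ g) = RingHom.id _ from RingHom.ext fun q => by
        obtain ⟨n, a, ha, rfl⟩ := Away.mk_surjective 𝒜 hf q
        exact hχ n a ha]
    simp
  refine key _ _ (hψφ f) _ fun n a ha => ?_
  rw [Away.map_mk, Away.map_mk]
  refine val_injective _ ?_
  rw [Away.val_mk, Away.val_mk]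
  congr 1
  exact hψφ a

end ring

variable {Y : Scheme.{u}} {𝒮 𝒮h : RelProj.QCGrAlg Y} {ι : 𝒮.toQCAlg ⟶ 𝒮h.toQCAlg}
  {z : 𝒮h.presheaf.obj (op ⊤)} (hz : RelCone.IsPolyOver 𝒮 𝒮h ι z)
  {PC P : Scheme.{u}} (pC : PC ⟶ Y)
  (chartC : ∀ (U : Y.Opens) (hU : IsAffineOpen U), (((pC ⁻¹ᵁ U : PC.Opens) : Scheme.{u}) ≅ Proj (𝒮h.deg U hU)))
  (p : P ⟶ Y)
  (chart : ∀ (U : Y.Opens) (hU : IsAffineOpen U), (((p ⁻¹ᵁ U : P.Opens) : Scheme.{u}) ≅ Proj (𝒮.deg U hU)))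

/-- the defining equations of the retraction on an open `W` -/
def IsRetr (W : PC.Opens) (r : (W : Scheme.{u}) ⟶ P) : Prop :=
  ∀ (U : Y.Opens) (hU : IsAffineOpen U) (d : ℕ) (hd : 0 < d) (f : 𝒮.presheaf.obj (op U)) (hf : f ∈ 𝒮.deg U hU d)
    (g : Spec (CommRingCat.of (HomogeneousLocalization.Away (𝒮h.deg U hU) ((RelProj.gradedHomAt ι hz.graded U hU) f))) ⟶
      (W : Scheme.{u})),
    g ≫ W.ι =
        Proj.awayι (𝒮h.deg U hU) ((RelProj.gradedHomAt ι hz.graded U hU) f) ((RelProj.gradedHomAt ι hz.graded U hU).2 hf) hd ≫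
          RelProj.emb pC chartC U hU →
      g ≫ r =
        Spec.map (CommRingCat.ofHom (HomogeneousLocalization.Away.map (RelProj.gradedHomAt ι hz.graded U hU) f)) ≫
          Proj.awayι (𝒮.deg U hU) f hf hd ≫ RelProj.emb p chart U hU

variable {pC chartC p chart}
variable (hPC : RelProj.IsRelProj 𝒮h pC chartC)

local notation "dom" => RelProj.domQ (RelProj.QGrHom.ofHom ι hz.graded) pC chartC

include hPC in
lemma awayι_emb_range_subset (U : Y.Opens) (hU : IsAffineOpen U) {d : ℕ} (hd : 0 < d)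
    {f : 𝒮.presheaf.obj (op U)} (hf : f ∈ 𝒮.deg U hU d) :
    Set.range (Proj.awayι (𝒮h.deg U hU) ((RelProj.gradedHomAt ι hz.graded U hU) f)
      ((RelProj.gradedHomAt ι hz.graded U hU).2 hf) hd ≫ RelProj.emb pC chartC U hU).base ⊆
      Set.range (dom).ι.base := by
  rw [Scheme.Opens.range_ι]
  rintro _ ⟨q, rfl⟩
  change RelProj.emb pC chartC U hU (Proj.awayι _ _ _ hd q) ∈ dom
  rw [← pointedProjCone_eq_domQ hz hPC, emb_mem_pointed_iff hz hPC]
  refine (mem_domOpen_iff _ _).2 ⟨d, f, hd, hf, ?_⟩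
  exact (Proj.opensRange_awayι _ _ ((RelProj.gradedHomAt ι hz.graded U hU).2 hf) hd).le ⟨q, rfl⟩

/-- the piece lifted into the domain -/
def retrPiece (U : Y.Opens) (hU : IsAffineOpen U) {d : ℕ} (hd : 0 < d) {f : 𝒮.presheaf.obj (op U)}
    (hf : f ∈ 𝒮.deg U hU d) :
    Spec (CommRingCat.of (HomogeneousLocalization.Away (𝒮h.deg U hU) ((RelProj.gradedHomAt ι hz.graded U hU) f))) ⟶
      ((dom : PC.Opens) : Scheme.{u}) :=
  IsOpenImmersion.lift (dom).ι _ (awayι_emb_range_subset hz hPC U hU hd hf)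

lemma retrPiece_ι (U : Y.Opens) (hU : IsAffineOpen U) {d : ℕ} (hd : 0 < d) {f : 𝒮.presheaf.obj (op U)}
    (hf : f ∈ 𝒮.deg U hU d) :
    retrPiece hz hPC U hU hd hf ≫ (dom).ι =
      Proj.awayι (𝒮h.deg U hU) ((RelProj.gradedHomAt ι hz.graded U hU) f) ((RelProj.gradedHomAt ι hz.graded U hU).2 hf) hd ≫
          RelProj.emb pC chartC U hU :=
  IsOpenImmersion.lift_fac _ _ _

include hPC in
lemma exists_piece (x : ((dom : PC.Opens) : Scheme.{u})) :
    ∃ (U : Y.Opens) (hU : IsAffineOpen U) (d : ℕ) (hd : 0 < d) (f : 𝒮.presheaf.obj (op U))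
      (hf : f ∈ 𝒮.deg U hU d), x ∈ Set.range (retrPiece hz hPC U hU hd hf) := by
  obtain ⟨U, hU, hxU, -⟩ :=
    exists_isAffineOpen_mem_and_subset (x := pC ((dom).ι x)) (U := (⊤ : Y.Opens)) trivial
  obtain ⟨y, hy⟩ : (dom).ι x ∈ Set.range (RelProj.emb pC chartC U hU) :=
    (RelProjLib.opensRange_emb (q := pC) (ch := chartC) U hU).ge hxU
  have hdom : RelProj.emb pC chartC U hU y ∈ RelCone.pointedProjCone 𝒮 hz pC chartC := by
    rw [pointedProjCone_eq_domQ hz hPC, hy]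
    exact x.2
  rw [emb_mem_pointed_iff hz hPC, mem_domOpen_iff] at hdom
  obtain ⟨d, f, hd, hf, hfy⟩ := hdom
  obtain ⟨q, hq⟩ := (Proj.opensRange_awayι _ _ ((RelProj.gradedHomAt ι hz.graded U hU).2 hf) hd).ge hfy
  refine ⟨U, hU, d, hd, f, hf, q, (dom).ι.isOpenEmbedding.injective ?_⟩
  rw [← Scheme.Hom.comp_apply, retrPiece_ι, Scheme.Hom.comp_apply]
  exact (congrArg _ hq).trans hy

include hPC in
lemma hom_ext_pieces {T : Scheme.{u}} {a b : ((dom : PC.Opens) : Scheme.{u}) ⟶ T}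
    (h : ∀ (U : Y.Opens) (hU : IsAffineOpen U) (d : ℕ) (hd : 0 < d) (f : 𝒮.presheaf.obj (op U))
      (hf : f ∈ 𝒮.deg U hU d), retrPiece hz hPC U hU hd hf ≫ a = retrPiece hz hPC U hU hd hf ≫ b) : a = b := by
  choose U hU d hd f hf hx using exists_piece hz hPC
  haveI : ∀ x, IsOpenImmersion (retrPiece hz hPC (U x) (hU x) (hd x) (hf x)) := fun x => by
    haveI : IsOpenImmersion (retrPiece hz hPC (U x) (hU x) (hd x) (hf x) ≫ (dom).ι) := by
      rw [retrPiece_ι]; infer_instance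
    exact IsOpenImmersion.of_comp _ (dom).ι
  let 𝒰 := ((dom : PC.Opens) : Scheme.{u}).openCoverOfIsOpenCover
    (fun x => (retrPiece hz hPC (U x) (hU x) (hd x) (hf x)).opensRange)
    (.mk (eq_top_iff.mpr fun x _ => Opens.mem_iSup.mpr ⟨x, hx x⟩))
  refine 𝒰.hom_ext _ _ fun x => ?_
  show (retrPiece hz hPC (U x) (hU x) (hd x) (hf x)).opensRange.ι ≫ a = _
  rw [← cancel_epi (retrPiece hz hPC (U x) (hU x) (hd x) (hf x)).isoOpensRange.hom, ← Category.assoc,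
    ← Category.assoc]
  erw [Scheme.Hom.isoOpensRange_hom_ι]
  exact h _ _ _ _ _ _

variable (hP : RelProj.IsRelProj 𝒮 p chart)

lemma isRetr_of_isProjQMapOn (Φ : ((dom : PC.Opens) : Scheme.{u}) ⟶ P)
    (hΦ : RelProj.IsProjQMapOn (RelProj.QGrHom.ofHom ι hz.graded) p chart pC chartC dom Φ) :
    IsRetr hz pC chartC p chart dom Φ := by
  intro U hU d hd f hf g hg
  have key : ∀ (ψ : 𝒮.deg U hU →+*ᵍ 𝒮h.deg U hU)
      (_ : (RelProj.QGrHom.ofHom ι hz.graded).gradedAt U hU U hU le_rfl = ψ)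
      (g : Spec (CommRingCat.of (HomogeneousLocalization.Away (𝒮h.deg U hU) (ψ f))) ⟶ ((dom : PC.Opens) : Scheme.{u})),
      g ≫ (dom).ι = Proj.awayι (𝒮h.deg U hU) (ψ f) (ψ.2 hf) hd ≫ RelProj.emb pC chartC U hU →
      g ≫ Φ = Spec.map (CommRingCat.ofHom (HomogeneousLocalization.Away.map ψ f)) ≫
          Proj.awayι (𝒮.deg U hU) f hf hd ≫ RelProj.emb p chart U hU := by
    intro ψ e g hg
    subst e
    have h := hΦ U hU U hU le_rfl d hd f hf (RelProj.range_awayEmb_subset_domQ _ _ _ _ _ _ _ _ hd f hf)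
    rw [← h]
    congr 1
    rw [← cancel_mono (dom).ι, IsOpenImmersion.lift_fac]
    exact hg
  exact key _ (RelProjLib.gradedAt_ofHom ι hz.graded U hU) g hg

include hPC hP in
lemma retr_dom :
    (∃! r : ((dom : PC.Opens) : Scheme.{u}) ⟶ P, IsRetr hz pC chartC p chart dom r) ∧
    ∀ r : ((dom : PC.Opens) : Scheme.{u}) ⟶ P, IsRetr hz pC chartC p chart dom r →
      IsAffineHom r ∧ r ≫ p = (dom).ι ≫ pC := by
  obtain ⟨⟨v, hv, -⟩, hvp⟩ :=
    S12139.result (𝟙 Y) 𝒮 𝒮h (RelProj.QGrHom.ofHom ι hz.graded) p chart hP pC chartC hPC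
  have hr := isRetr_of_isProjQMapOn hz v hv
  have huniq : ∀ r, IsRetr hz pC chartC p chart dom r → r = v := fun r hr' =>
    hom_ext_pieces hz hPC fun U hU d hd f hf => by
      rw [hr' U hU d hd f hf _ (retrPiece_ι hz hPC U hU hd hf), hr U hU d hd f hf _ (retrPiece_ι hz hPC U hU hd hf)]
  refine ⟨⟨v, hr, huniq⟩, fun r hr' => ?_⟩
  rw [huniq r hr']
  exact ⟨(S12140.result 𝒮 𝒮h ι hz.graded p chart hP pC chartC hPC v hv).1, by
    simpa using hvp v hv⟩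

include hPC hP in
lemma surjective_retr_dom (r : ((dom : PC.Opens) : Scheme.{u}) ⟶ P) (hr : IsRetr hz pC chartC p chart dom r) :
    Function.Surjective r.base := by
  intro x
  obtain ⟨U, hU, hxU, -⟩ := exists_isAffineOpen_mem_and_subset (x := p x) (U := (⊤ : Y.Opens)) trivial
  obtain ⟨y, rfl⟩ : x ∈ Set.range (RelProj.emb p chart U hU) :=
    (RelProjLib.opensRange_emb (q := p) (ch := chart) U hU).ge hxU
  obtain ⟨s, q, rfl⟩ : ∃ (s : Σ i : PNat, 𝒮.deg U hU i) (q : _),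
      Proj.awayι (𝒮.deg U hU) (s.2 : 𝒮.presheaf.obj (op U)) s.2.2 s.1.2 q = y :=
    ⟨_, ((Proj.affineOpenCover (𝒮.deg U hU)).openCover.exists_eq y).choose_spec⟩
  obtain ⟨w, rfl⟩ := (surjective_map_away (isPoly hz U hU) s.2.2).surj q
  refine ⟨retrPiece hz hPC U hU s.1.2 s.2.2 w, ?_⟩
  exact congr($(hr U hU _ s.1.2 _ s.2.2 _ (retrPiece_ι hz hPC U hU s.1.2 s.2.2)) w)

include hPC hP in
lemma section_retr_dom (r : ((dom : PC.Opens) : Scheme.{u}) ⟶ P) (hr : IsRetr hz pC chartC p chart dom r)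
    {θ : 𝒮h.toQCAlg ⟶ 𝒮.toQCAlg} {hθ : RelProj.IsGradedHom θ} (hιθ : ι ≫ θ = 𝟙 _)
    {hirr : ∀ (U : Y.Opens) (hU : IsAffineOpen U),
      (𝒮.deg U hU)₊ ≤ ((𝒮h.deg U hU)₊).map (RelProj.gradedHomAt θ hθ U hU)}
    {j : P ⟶ PC} (hj : RelProj.IsRelProjMap θ hθ hirr chartC chart j)
    (j' : P ⟶ ((dom : PC.Opens) : Scheme.{u})) (hj' : j' ≫ (dom).ι = j) : j' ≫ r = 𝟙 P := by
  refine RelProjLib.hom_ext (𝒮 := 𝒮) (q := p) (ch := chart) fun U hU => ?_
  rw [Category.comp_id]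
  refine (Proj.affineOpenCover (𝒮.deg U hU)).openCover.hom_ext _ _ fun s => ?_
  change Proj.awayι (𝒮.deg U hU) (s.2 : 𝒮.presheaf.obj (op U)) s.2.2 s.1.2 ≫ _ = Proj.awayι (𝒮.deg U hU) (s.2 : 𝒮.presheaf.obj (op U)) s.2.2 s.1.2 ≫ _
  obtain ⟨⟨d, hd⟩, f, hf⟩ := s
  let φ := RelProj.gradedHomAt ι hz.graded U hU
  let ψ := RelProj.gradedHomAt θ hθ U hU
  have hψφ : ∀ a, ψ (φ a) = a := fun a =>
    congr($(congrArg (fun f => RelSpec.QCAlg.Hom.hom f) hιθ |> fun e => NatTrans.congr_app e (op U)) a)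
  suffices h : Proj.awayι (𝒮.deg U hU) (ψ (φ f)) (ψ.2 (φ.2 hf)) hd ≫ RelProj.emb p chart U hU ≫ j' ≫ r =
      Proj.awayι (𝒮.deg U hU) (ψ (φ f)) (ψ.2 (φ.2 hf)) hd ≫ RelProj.emb p chart U hU by
    have key : ∀ (g : 𝒮.presheaf.obj (op U)) (hg : g ∈ 𝒮.deg U hU d) (_ : g = f),
        Proj.awayι (𝒮.deg U hU) g hg hd ≫ RelProj.emb p chart U hU ≫ j' ≫ r =
          Proj.awayι (𝒮.deg U hU) g hg hd ≫ RelProj.emb p chart U hU →
        Proj.awayι (𝒮.deg U hU) f hf hd ≫ RelProj.emb p chart U hU ≫ j' ≫ r =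
          Proj.awayι (𝒮.deg U hU) f hf hd ≫ RelProj.emb p chart U hU := by
      intro g hg e hh; subst e; exact hh
    exact key _ _ (hψφ f) h
  have e1 : Proj.awayι (𝒮.deg U hU) (ψ (φ f)) (ψ.2 (φ.2 hf)) hd ≫ RelProj.emb p chart U hU ≫ j' =
      Spec.map (CommRingCat.ofHom (Away.map ψ (φ f))) ≫ retrPiece hz hPC U hU hd hf := by
    rw [← cancel_mono (dom).ι]
    simp only [Category.assoc, hj', retrPiece_ι, (RelProjLib.isRelProjMap_iff j).1 hj U hU]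
    erw [← Category.assoc, Proj.awayι_comp_map ψ _ hd _ (φ.2 hf), Category.assoc]
  rw [reassoc_of% e1, hr U hU d hd f hf _ (retrPiece_ι hz hPC U hU hd hf)]
  rw [← map_retraction_awayι φ ψ hψφ hd hf, Category.assoc, Category.assoc]

include hPC hP in
theorem retr_pointed :
    (∃! r : ((RelCone.pointedProjCone 𝒮 hz pC chartC : PC.Opens) : Scheme.{u}) ⟶ P,
      IsRetr hz pC chartC p chart (RelCone.pointedProjCone 𝒮 hz pC chartC) r) ∧
    ∀ r : ((RelCone.pointedProjCone 𝒮 hz pC chartC : PC.Opens) : Scheme.{u}) ⟶ P,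
      IsRetr hz pC chartC p chart (RelCone.pointedProjCone 𝒮 hz pC chartC) r →
      IsAffineHom r ∧ Function.Surjective r.base ∧
        r ≫ p = (RelCone.pointedProjCone 𝒮 hz pC chartC).ι ≫ pC ∧
        ∀ {θ : 𝒮h.toQCAlg ⟶ 𝒮.toQCAlg} {hθ : RelProj.IsGradedHom θ}, ι ≫ θ = 𝟙 _ →
          ∀ {hirr : ∀ (U : Y.Opens) (hU : IsAffineOpen U),
              (𝒮.deg U hU)₊ ≤ ((𝒮h.deg U hU)₊).map (RelProj.gradedHomAt θ hθ U hU)}
            {j : P ⟶ PC}, RelProj.IsRelProjMap θ hθ hirr chartC chart j →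
            ∀ j' : P ⟶ ((RelCone.pointedProjCone 𝒮 hz pC chartC : PC.Opens) : Scheme.{u}),
              j' ≫ (RelCone.pointedProjCone 𝒮 hz pC chartC).ι = j → j' ≫ r = 𝟙 P := by
  rw [pointedProjCone_eq_domQ hz hPC]
  refine ⟨(retr_dom hz hPC hP).1, fun r hr => ⟨((retr_dom hz hPC hP).2 r hr).1, surjective_retr_dom hz hPC hP r hr,
    ((retr_dom hz hPC hP).2 r hr).2, ?_⟩⟩
  intro θ hθ hιθ hirr j hj j' hj'
  exact section_retr_dom hz hPC hP r hr hιθ hj j' hj'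

end Groth.Agent.ConeLib
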