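import Groth.Prelude.Def_RelSpec2
import Mathlib.AlgebraicGeometry.ProjectiveSpectrum.Proper

/-!
# One variable of degree one adjoined to a graded ring
-/

set_option autoImplicit false
set_option linter.style.haveILetI false
set_option linter.unusedSectionVars false
set_option backward.isDefEq.respectTransparency false
set_option backward.isDefEq.respectTransparency.types false

universe u

open CategoryTheory CategoryTheory.Limits AlgebraicGeometry TopologicalSpace HomogeneousLocalization Polynomial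

noncomputable section

namespace Groth.Agent.ConeLib

variable {A σ : Type u} [CommRing A] [SetLike σ A] [AddSubgroupClass σ A] {𝒜 : ℕ → σ} [GradedRing 𝒜]
variable {B τ : Type u} [CommRing B] [SetLike τ B] [AddSubgroupClass τ B] {ℬ : ℕ → τ} [GradedRing ℬ]

/-- `ℬ` is `𝒜[z]` with `z` of degree one. -/
structure IsPoly (φ : 𝒜 →+*ᵍ ℬ) (z : B) : Prop where
  mem : z ∈ ℬ 1
  bij : Function.Bijective (Polynomial.eval₂RingHom φ.toRingHom z)

variable {φ : 𝒜 →+*ᵍ ℬ} {z : B} (h : IsPoly φ z)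

namespace IsPoly

include h

/-- the presentation -/
def equiv : A[X] ≃+* B := RingEquiv.ofBijective _ h.bij

lemma equiv_apply (P : A[X]) : h.equiv P = P.eval₂ φ.toRingHom z := rfl

lemma symm_apply (a : A) : h.equiv.symm (φ a) = C a := by
  rw [RingEquiv.symm_apply_eq, equiv_apply, eval₂_C]
  rfl

lemma symm_z : h.equiv.symm z = X := by rw [RingEquiv.symm_apply_eq, equiv_apply, eval₂_X]

/-- set `z = c` -/
def ev (c : A) : B →+* A := (evalRingHom c).comp h.equiv.symm.toRingHom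

@[simp] lemma ev_map (c a : A) : h.ev c (φ a) = a := by simp [ev, h.symm_apply]

@[simp] lemma ev_z (c : A) : h.ev c z = c := by simp [ev, h.symm_z]

lemma injective : Function.Injective φ := fun a b hab => by
  simpa using congrArg (h.ev 0) hab

omit h in
lemma pow_mem' (hz : z ∈ ℬ 1) (i : ℕ) : z ^ i ∈ ℬ i := by simpa using SetLike.pow_mem_graded i hz

/-- the expansion of a homogeneous element -/
lemma exists_expand {b : B} {n : ℕ} (hb : b ∈ ℬ n) :
    ∃ c : ℕ → A, (∀ i, c i ∈ 𝒜 (n - i)) ∧ b = ∑ i ∈ Finset.range (n + 1), φ (c i) * z ^ i := by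
  classical
  obtain ⟨P, hP⟩ := h.bij.2 b
  refine ⟨fun i => DirectSum.decompose 𝒜 (P.coeff i) (n - i), fun i => SetLike.coe_mem _, ?_⟩
  have hpiece : ∀ i, (DirectSum.decompose ℬ (φ (P.coeff i) * z ^ i) n : B) =
      if i ≤ n then φ (DirectSum.decompose 𝒜 (P.coeff i) (n - i) : A) * z ^ i else 0 := by
    intro i
    rw [DirectSum.coe_decompose_mul_of_right_mem (𝒜 := ℬ) n (pow_mem' h.mem i)]
    split_ifs
    · rw [GradedRingHom.map_directSumDecompose 𝒜 ℬ φ]
    · rfl
  conv_lhs =>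
    rw [← DirectSum.decompose_of_mem_same ℬ hb, ← hP, coe_eval₂RingHom, eval₂_eq_sum_range,
      DirectSum.decompose_sum, DFinsupp.finsetSum_apply, AddSubmonoidClass.coe_finsetSum]
  refine (Finset.sum_congr rfl (g := fun i => if i ≤ n then
      φ (DirectSum.decompose 𝒜 (P.coeff i) (n - i) : A) * z ^ i else 0) fun i _ => hpiece i).trans ?_
  have hf : ∀ (m : ℕ), P.natDegree < m → φ (DirectSum.decompose 𝒜 (P.coeff m) (n - m) : A) * z ^ m = 0 :=
    fun m hm => by rw [coeff_eq_zero_of_natDegree_lt hm]; simp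
  rw [← Finset.sum_filter]
  refine Finset.sum_subset (fun i hi => ?_) fun i hi hi' => hf i ?_
  · simp only [Finset.mem_filter, Finset.mem_range] at hi ⊢
    omega
  · simp only [Finset.mem_filter, Finset.mem_range] at hi hi'
    omega

lemma ev_sum (c : A) (n : ℕ) (a : ℕ → A) :
    h.ev c (∑ i ∈ Finset.range (n + 1), φ (a i) * z ^ i) = ∑ i ∈ Finset.range (n + 1), a i * c ^ i := by
  simp [map_sum]

lemma ev_zero_mem {b : B} {n : ℕ} (hb : b ∈ ℬ n) : h.ev 0 b ∈ 𝒜 n := by
  obtain ⟨c, hc, rfl⟩ := h.exists_expand hb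
  rw [ev_sum, Finset.sum_eq_single 0 (fun i _ hi => by rw [zero_pow hi, mul_zero]) (by simp)]
  simpa using hc 0

/-- the graded retraction `z ↦ 0` -/
def retraction : ℬ →+*ᵍ 𝒜 := ⟨h.ev 0, fun hb => h.ev_zero_mem hb⟩

lemma eq_zero_of_ev_one {b : B} {n : ℕ} (hb : b ∈ ℬ n) (h0 : h.ev 1 b = 0) : b = 0 := by
  classical
  obtain ⟨c, hc, rfl⟩ := h.exists_expand hb
  rw [ev_sum] at h0
  simp only [one_pow, mul_one] at h0
  have hz : ∀ i ≤ n, c i = 0 := fun i hi => by
    have := congrArg (fun a => (DirectSum.decompose 𝒜 a (n - i) : A)) h0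
    simp only [DirectSum.decompose_sum, DirectSum.decompose_zero, DFinsupp.zero_apply, ZeroMemClass.coe_zero] at this
    erw [DFinsupp.finsetSum_apply, AddSubmonoidClass.coe_finsetSum] at this
    rw [Finset.sum_eq_single i (fun j hj hji => DirectSum.decompose_of_mem_ne 𝒜 (hc j) (by
        have : j < n + 1 := Finset.mem_range.1 hj
        omega)) (fun hni => absurd (Finset.mem_range.2 (by omega)) hni),
      DirectSum.decompose_of_mem_same 𝒜 (hc i)] at this
    exact this
  exact Finset.sum_eq_zero fun i hi => by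
    rw [hz i (by have := Finset.mem_range.1 hi; omega), map_zero, zero_mul]

/-- `x / z ^ k ↦ x(z := 1)` -/
def awayTo : Away ℬ z →+* A :=
  (IsLocalization.Away.lift z (g := h.ev 1) (by rw [ev_z]; exact isUnit_one)).comp
    (algebraMap (Away ℬ z) (Localization.Away z))

lemma awayTo_of_val (q : Away ℬ z) (x : B) (k : ℕ)
    (hq : q.val = Localization.mk x ⟨z ^ k, pow_mem (Submonoid.mem_powers _) k⟩) : h.awayTo q = h.ev 1 x := by
  rw [awayTo, RingHom.comp_apply, HomogeneousLocalization.algebraMap_apply, hq, Localization.mk_eq_mk',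
    IsLocalization.Away.lift, IsLocalization.lift_mk', Units.mul_inv_eq_iff_eq_mul, IsUnit.coe_liftRight]
  simp [map_pow]

lemma awayTo_mk {k : ℕ} {x : B} (hx : x ∈ ℬ (k • 1)) : h.awayTo (Away.mk ℬ h.mem k x hx) = h.ev 1 x :=
  h.awayTo_of_val _ x k (Away.val_mk _ _ _ _ _)

lemma map_mem_smul {k : ℕ} {a : A} (ha : a ∈ 𝒜 k) : φ a ∈ ℬ (k • 1) := by
  rw [smul_eq_mul, mul_one]; exact Graded.map_mem φ ha

lemma awayTo_bijective : Function.Bijective h.awayTo := by
  classical
  refine ⟨(injective_iff_map_eq_zero _).2 fun q hq => ?_, fun a => ?_⟩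
  · obtain ⟨n, x, hx, rfl⟩ := Away.mk_surjective ℬ h.mem q
    rw [awayTo_mk] at hq
    have hx0 : x = 0 := h.eq_zero_of_ev_one (by rwa [smul_eq_mul, mul_one] at hx) hq
    refine val_injective _ ?_
    rw [Away.val_mk, val_zero, hx0, Localization.mk_zero]
  · refine ⟨∑ k ∈ (DirectSum.decompose 𝒜 a).support,
      Away.mk ℬ h.mem k (φ (DirectSum.decompose 𝒜 a k : A)) (h.map_mem_smul (SetLike.coe_mem _)), ?_⟩
    rw [map_sum]
    conv_rhs => rw [← DirectSum.sum_support_decompose 𝒜 a]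
    exact Finset.sum_congr rfl fun k _ => by rw [awayTo_mk, ev_map]

/-- the characterisation of `awayTo` -/
lemma eq_awayTo (θ : Away ℬ z →+* A)
    (hθ : ∀ (q : Away ℬ z) (k : ℕ) (x : A), x ∈ 𝒜 k →
      q.val = Localization.mk (φ x) ⟨z ^ k, pow_mem (Submonoid.mem_powers z) k⟩ → θ q = x) :
    θ = h.awayTo := by
  classical
  ext q
  let S := ∑ k ∈ (DirectSum.decompose 𝒜 (h.awayTo q)).support,
    Away.mk ℬ h.mem k (φ (DirectSum.decompose 𝒜 (h.awayTo q) k : A)) (h.map_mem_smul (SetLike.coe_mem _))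
  have hS : h.awayTo S = h.awayTo q := by
    rw [map_sum]
    conv_rhs => rw [← DirectSum.sum_support_decompose 𝒜 (h.awayTo q)]
    exact Finset.sum_congr rfl fun k _ => by rw [awayTo_mk, ev_map]
  conv_lhs => rw [← h.awayTo_bijective.1 hS]
  rw [map_sum]
  conv_rhs => rw [← DirectSum.sum_support_decompose 𝒜 (h.awayTo q)]
  exact Finset.sum_congr rfl fun k _ => hθ _ k _ (SetLike.coe_mem _) (Away.val_mk _ _ _ _ _)

/-- the affine piece `Spec A ⟶ Proj A[z]` -/
def piece : Spec (CommRingCat.of A) ⟶ Proj ℬ :=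
  Spec.map (CommRingCat.ofHom h.awayTo) ≫ Proj.awayι ℬ z h.mem one_pos

lemma piece_toSpecZero : h.piece ≫ Proj.toSpecZero ℬ =
    Spec.map (CommRingCat.ofHom (h.awayTo.comp (fromZeroRingHom ℬ _))) := by
  rw [piece, Category.assoc, Proj.awayι_toSpecZero, ← Spec.map_comp, CommRingCat.ofHom_comp]

lemma awayTo_fromZero (b : ℬ 0) : h.awayTo (fromZeroRingHom ℬ _ b) = h.ev 1 (b : B) := by
  refine h.awayTo_of_val _ _ 0 ?_
  change Localization.mk _ _ = Localization.mk _ _
  congr 1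
  exact Subtype.ext (pow_zero _).symm

lemma isIso_map_awayTo : IsIso (Spec.map (CommRingCat.ofHom h.awayTo)) := by
  haveI : IsIso (CommRingCat.ofHom h.awayTo) := (ConcreteCategory.isIso_iff_bijective _).mpr h.awayTo_bijective
  infer_instance

lemma isOpenImmersion_piece : IsOpenImmersion h.piece := by
  haveI := h.isIso_map_awayTo
  unfold piece; infer_instance

lemma range_piece : Set.range h.piece = (Proj.basicOpen ℬ z : Set (Proj ℬ)) := by
  haveI := h.isIso_map_awayTo
  rw [← Proj.opensRange_awayι ℬ z h.mem one_pos, Scheme.Hom.coe_opensRange, piece, Scheme.Hom.comp_base,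
    TopCat.coe_comp, Set.range_comp, Set.range_eq_univ.2 (Spec.map (CommRingCat.ofHom h.awayTo)).surjective,
    Set.image_univ]

lemma piece_mem_iff {d : ℕ} {f : A} (hd : 0 < d) (hf : f ∈ 𝒜 d) (Q : PrimeSpectrum A) :
    h.piece Q ∈ Proj.basicOpen ℬ (φ f) ↔ f ∉ Q.asIdeal := by
  change Spec.map (CommRingCat.ofHom h.awayTo) Q ∈ Proj.awayι ℬ z h.mem one_pos ⁻¹ᵁ Proj.basicOpen ℬ (φ f) ↔ _
  refine (SetLike.ext_iff.1 (Proj.awayι_preimage_basicOpen ℬ h.mem one_pos (φ.2 hf) hd) _).trans ?_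
  change h.awayTo (Away.isLocalizationElem h.mem (φ.2 hf)) ∉ Q.asIdeal ↔ _
  rw [Away.isLocalizationElem, awayTo_mk, pow_one]
  exact Iff.of_eq (congrArg (· ∉ Q.asIdeal) (h.ev_map 1 f))

end IsPoly

section dom

omit h in
lemma mem_domOpen_iff (ψ : 𝒜 →+*ᵍ ℬ) (x : Proj ℬ) :
    x ∈ RelCone.domOpen ψ ↔ ∃ (d : ℕ) (f : A), 0 < d ∧ f ∈ 𝒜 d ∧ x ∈ Proj.basicOpen ℬ (ψ f) := by
  classical
  rw [RelCone.mem_domOpen]
  constructor
  · rintro ⟨f, hf, hx⟩
    by_contra hno
    refine hx ?_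
    rw [← DirectSum.sum_support_decompose 𝒜 f, map_sum]
    refine Ideal.sum_mem _ fun i _ => ?_
    rcases Nat.eq_zero_or_pos i with rfl | hi
    · rw [← GradedRing.proj_apply, (HomogeneousIdeal.mem_irrelevant_iff _ _).mp hf, map_zero]
      exact Ideal.zero_mem _
    · by_contra hmem
      exact hno ⟨i, _, hi, SetLike.coe_mem _, hmem⟩
  · rintro ⟨d, f, hd, hf, hx⟩
    exact ⟨f, HomogeneousIdeal.mem_irrelevant_of_mem 𝒜 hd hf, hx⟩

include h in
lemma mem_basicOpen_z {x : Proj ℬ} (hx : x ∉ RelCone.domOpen φ) : x ∈ Proj.basicOpen ℬ z := by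
  classical
  by_contra hz
  have hz' : z ∈ x.asHomogeneousIdeal.toIdeal := not_not.1 hz
  refine x.not_irrelevant_le fun b hb => ?_
  have hb' : b ∈ (HomogeneousIdeal.irrelevant ℬ).toIdeal := hb
  change b ∈ x.asHomogeneousIdeal.toIdeal
  rw [← DirectSum.sum_support_decompose ℬ b]
  refine Ideal.sum_mem _ fun n _ => ?_
  rcases Nat.eq_zero_or_pos n with rfl | hn
  · rw [← GradedRing.proj_apply, (HomogeneousIdeal.mem_irrelevant_iff _ _).mp hb']
    exact Ideal.zero_mem _
  obtain ⟨c, hc, e⟩ := h.exists_expand (SetLike.coe_mem (DirectSum.decompose ℬ b n))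
  rw [e]
  refine Ideal.sum_mem _ fun i _ => ?_
  rcases Nat.eq_zero_or_pos i with rfl | hi
  · refine Ideal.mul_mem_right _ _ ?_
    by_contra hmem
    exact hx ((mem_domOpen_iff φ x).2 ⟨n, c 0, hn, hc 0, hmem⟩)
  · exact Ideal.mul_mem_left _ _ (Ideal.pow_mem_of_mem _ hz' i hi)

include h in
lemma piece_mem_domOpen_iff (Q : PrimeSpectrum A) :
    h.piece Q ∈ RelCone.domOpen φ ↔ ¬ (HomogeneousIdeal.irrelevant 𝒜).toIdeal ≤ Q.asIdeal := by
  classical
  rw [mem_domOpen_iff]
  constructor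
  · rintro ⟨d, f, hd, hf, hfx⟩ hle
    exact (h.piece_mem_iff hd hf Q).1 hfx (hle (HomogeneousIdeal.mem_irrelevant_of_mem 𝒜 hd hf))
  · intro hle
    by_contra hno
    refine hle fun a ha => ?_
    rw [← DirectSum.sum_support_decompose 𝒜 a]
    refine Ideal.sum_mem _ fun i _ => ?_
    rcases Nat.eq_zero_or_pos i with rfl | hi
    · rw [← GradedRing.proj_apply, (HomogeneousIdeal.mem_irrelevant_iff _ _).mp ha]
      exact Ideal.zero_mem _
    · by_contra hmem
      exact hno ⟨i, _, hi, SetLike.coe_mem _, (h.piece_mem_iff hi (SetLike.coe_mem _) Q).2 hmem⟩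

/-- the complement of the domain of definition -/
theorem compl_domOpen :
    (RelCone.domOpen φ : Set (Proj ℬ))ᶜ =
      h.piece '' PrimeSpectrum.zeroLocus ((HomogeneousIdeal.irrelevant 𝒜).toIdeal : Set A) := by
  ext x
  constructor
  · intro hx
    have hxz : x ∈ (Proj.basicOpen ℬ z : Set (Proj ℬ)) := mem_basicOpen_z h hx
    rw [← h.range_piece] at hxz
    obtain ⟨Q, rfl⟩ := hxz
    exact ⟨Q, not_not.1 fun hQ => hx ((piece_mem_domOpen_iff h Q).2 hQ), rfl⟩
  · rintro ⟨Q, hQ, rfl⟩ hx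
    exact (piece_mem_domOpen_iff h Q).1 hx hQ

end dom

section retraction

include h in
/-- `Spec B₍f₎ → Spec A₍f₎` is surjective. -/
theorem surjective_map_away {d : ℕ} {f : A} (hf : f ∈ 𝒜 d) :
    Surjective (Spec.map (CommRingCat.ofHom (Away.map φ f))) := by
  let ρ : Away ℬ (φ f) →+* Away 𝒜 (h.retraction (φ f)) := Away.map h.retraction (φ f)
  have he : h.retraction (φ f) = f := h.ev_map 0 f
  refine ⟨fun P => ?_⟩
  have key : ∀ (g : A) (e : g = f) (χ : Away ℬ (φ f) →+* Away 𝒜 g),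
      (∀ (n : ℕ) (a : A) (ha : a ∈ 𝒜 (n • d)),
        χ (Away.map φ f (Away.mk 𝒜 hf n a ha)) = Away.mk 𝒜 (show g ∈ 𝒜 d by rw [e]; exact hf) n a ha) →
      P ∈ Set.range (Spec.map (CommRingCat.ofHom (Away.map φ f))) := by
    intro g e χ hχ
    subst e
    refine ⟨Spec.map (CommRingCat.ofHom χ) P, ?_⟩
    change (Spec.map (CommRingCat.ofHom χ) ≫ Spec.map (CommRingCat.ofHom (Away.map φ g))) P = _
    rw [← Spec.map_comp, ← CommRingCat.ofHom_comp,
      show χ.comp (Away.map φ g) = RingHom.id _ from RingHom.ext fun q => by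
        obtain ⟨n, a, ha, rfl⟩ := Away.mk_surjective 𝒜 hf q
        exact hχ n a ha]
    simp
  refine key _ he ρ fun n a ha => ?_
  rw [Away.map_mk, Away.map_mk]
  refine val_injective _ ?_
  rw [Away.val_mk, Away.val_mk]
  congr 1
  exact h.ev_map 0 a

/-- `Spec A_f → Spec A₍f₎` is surjective. -/
theorem surjective_map_algebraMap {d : ℕ} {f : A} (hf : f ∈ 𝒜 d) (hd : 0 < d) :
    Surjective (Spec.map (CommRingCat.ofHom (algebraMap (Away 𝒜 f) (Localization.Away f)))) := by
  classical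
  refine ⟨fun P => ?_⟩
  let x : Proj 𝒜 := Proj.awayι 𝒜 f hf hd P
  have hfx : f ∉ x.asHomogeneousIdeal.toIdeal := by
    have h1 : x ∈ (Proj.awayι 𝒜 f hf hd).opensRange := ⟨P, rfl⟩
    rw [Proj.opensRange_awayι] at h1
    exact h1
  let Q : PrimeSpectrum A := ⟨x.asHomogeneousIdeal.toIdeal, x.isPrime⟩
  have hQr : Q ∈ Set.range (PrimeSpectrum.comap (algebraMap A (Localization.Away f))) := by
    rw [PrimeSpectrum.localization_away_comap_range (Localization.Away f) f]
    exact hfx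
  obtain ⟨w, hw⟩ := hQr
  refine ⟨w, (Proj.awayι 𝒜 f hf hd).isOpenEmbedding.injective ?_⟩
  -- both points have the same homogeneous elements
  let y : Proj 𝒜 := Proj.awayι 𝒜 f hf hd (Spec.map (CommRingCat.ofHom (algebraMap (Away 𝒜 f) (Localization.Away f))) w)
  change y = x
  have hpos : ∀ (i : ℕ) (a : A), 0 < i → a ∈ 𝒜 i → (y ∈ Proj.basicOpen 𝒜 a ↔ x ∈ Proj.basicOpen 𝒜 a) := by
    intro i a hi ha
    change Spec.map (CommRingCat.ofHom (algebraMap (Away 𝒜 f) (Localization.Away f))) w ∈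
        Proj.awayι 𝒜 f hf hd ⁻¹ᵁ Proj.basicOpen 𝒜 a ↔ _
    rw [Proj.awayι_preimage_basicOpen 𝒜 hf hd ha hi]
    change (Away.isLocalizationElem hf ha).val ∉ w.asIdeal ↔ a ∉ Q.asIdeal
    rw [← hw]
    change _ ↔ algebraMap A (Localization.Away f) a ∉ w.asIdeal
    have hu : IsUnit (algebraMap A (Localization.Away f) (f ^ i)) := by
      rw [map_pow]; exact (IsLocalization.Away.algebraMap_isUnit f).pow i
    have hval : (Away.isLocalizationElem hf ha).val * algebraMap A (Localization.Away f) (f ^ i) =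
        algebraMap A (Localization.Away f) a ^ d := by
      rw [Away.isLocalizationElem, Away.val_mk, Localization.mk_eq_mk', IsLocalization.mk'_spec, map_pow]
    rw [not_iff_not]
    refine Iff.trans ?_ (w.2.pow_mem_iff_mem d hd)
    rw [← hval]
    exact ⟨fun hh => Ideal.mul_mem_right _ _ hh,
      fun hh => (w.2.mem_or_mem hh).resolve_right fun h' => w.2.ne_top (Ideal.eq_top_of_isUnit_mem _ h' hu)⟩
  have hfy : f ∉ y.asHomogeneousIdeal.toIdeal := (hpos d f hd hf).2 hfx
  have hiff : ∀ (i : ℕ) (a : A), a ∈ 𝒜 i →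
      (a ∈ y.asHomogeneousIdeal.toIdeal ↔ a ∈ x.asHomogeneousIdeal.toIdeal) := by
    intro i a ha
    rcases Nat.eq_zero_or_pos i with rfl | hi
    · have hmul := not_iff_not.1 (hpos (0 + d) (a * f) (by omega) (SetLike.mul_mem_graded ha hf))
      exact ⟨fun hh => (x.isPrime.mem_or_mem (hmul.1 (Ideal.mul_mem_right _ _ hh))).resolve_right hfx,
        fun hh => (y.isPrime.mem_or_mem (hmul.2 (Ideal.mul_mem_right _ _ hh))).resolve_right hfy⟩
    · exact not_iff_not.1 (hpos i a hi ha)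
  refine ProjectiveSpectrum.ext (HomogeneousIdeal.ext (Ideal.ext fun a => ?_))
  constructor <;> intro hh <;> rw [← DirectSum.sum_support_decompose 𝒜 a] <;> refine Ideal.sum_mem _ fun i _ => ?_
  · exact (hiff i _ (SetLike.coe_mem _)).1 (y.asHomogeneousIdeal.isHomogeneous i hh)
  · exact (hiff i _ (SetLike.coe_mem _)).2 (x.asHomogeneousIdeal.isHomogeneous i hh)

end retraction

end Groth.Agent.ConeLib
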