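import Groth.Agent.RelSpecUP.Basic
import Groth.Prelude.Def_RelSpec2

/-!
# Membership in the pointed affine cone
-/

set_option autoImplicit false
set_option linter.style.haveILetI false
set_option linter.unusedSectionVars false
set_option backward.isDefEq.respectTransparency false
set_option backward.isDefEq.respectTransparency.types false

universe u

open CategoryTheory CategoryTheory.Limits AlgebraicGeometry TopologicalSpace Opposite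
open scoped HomogeneousIdeal

noncomputable section

namespace Groth.Agent.ConeLib

open Groth.Agent

variable {Y : Scheme.{u}} (𝒮 : RelProj.QCGrAlg Y)

lemma vertexCompl_res (U : Y.Opens) (hU : IsAffineOpen U) (r : Γ(Y, U)) (v : Spec (𝒮.presheaf.obj (op (Y.basicOpen r)))) :
    Spec.map (𝒮.presheaf.map (homOfLE (Y.basicOpen_le r)).op) v ∈ RelCone.vertexCompl (𝒮.deg U hU) ↔
      v ∈ RelCone.vertexCompl (𝒮.deg (Y.basicOpen r) (hU.basicOpen r)) := by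
  change ¬ ((𝒮.deg U hU)₊).toIdeal ≤
      (v.asIdeal.comap (𝒮.presheaf.map (homOfLE (Y.basicOpen_le r)).op).hom) ↔
    ¬ ((𝒮.deg (Y.basicOpen r) (hU.basicOpen r))₊).toIdeal ≤ v.asIdeal
  rw [not_iff_not]
  refine ⟨fun h => ?_, fun h a ha => h ?_⟩
  · refine le_trans (fun x hx => (𝒮.irrelevant_le_map U hU r) hx : _ ≤ _) ?_
    exact Ideal.map_le_iff_le_comap.2 h
  · change 𝒮.res hU (hU.basicOpen r) (Y.basicOpen_le r) a ∈ (𝒮.deg (Y.basicOpen r) (hU.basicOpen r))₊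
    have ha' : a ∈ (𝒮.deg U hU)₊ := ha
    rw [HomogeneousIdeal.mem_irrelevant_iff] at ha' ⊢
    rw [GradedRing.proj_apply,
      ← GradedRingHom.map_directSumDecompose (𝒮.deg U hU) _ (𝒮.res hU (hU.basicOpen r) (Y.basicOpen_le r)),
      ← GradedRing.proj_apply, ha', map_zero]

lemma ι_basicOpen (U : Y.Opens) (hU : IsAffineOpen U) (r : Γ(Y, U)) :
    Spec.map (𝒮.presheaf.map (homOfLE (Y.basicOpen_le r)).op) ≫ 𝒮.toQCAlg.ι U hU =
      𝒮.toQCAlg.ι (Y.basicOpen r) (hU.basicOpen r) :=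
  𝒮.toQCAlg.ι_res (U := (⟨U, hU⟩ : Y.AffineZariskiSite)) (V := (⟨Y.basicOpen r, hU.basicOpen r⟩ : Y.AffineZariskiSite))
    (homOfLE ⟨r, rfl⟩)

lemma π_ι_mem {S : Scheme.{u}} (A : RelSpec.QCAlg S) (U : S.Opens) (hU : IsAffineOpen U)
    (w : Spec (A.presheaf.obj (op U))) : A.π (A.ι U hU w) ∈ U :=
  (A.π_preimage U hU).ge ⟨w, rfl⟩

/-- membership in the pointed cone can be tested in any chart -/
theorem mem_pointedCone_iff (U : Y.Opens) (hU : IsAffineOpen U) (w : Spec (𝒮.presheaf.obj (op U))) :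
    𝒮.toQCAlg.ι U hU w ∈ RelCone.pointedCone 𝒮 ↔ w ∈ RelCone.vertexCompl (𝒮.deg U hU) := by
  refine ⟨fun h => ?_, fun h => Opens.mem_iSup.2 ⟨⟨U, hU⟩, w, h, rfl⟩⟩
  obtain ⟨⟨V, hV⟩, v, hv, hvw'⟩ := Opens.mem_iSup.1 h
  have hvw : 𝒮.toQCAlg.ι V hV v = 𝒮.toQCAlg.ι U hU w := hvw'
  have hx : 𝒮.toQCAlg.π (𝒮.toQCAlg.ι U hU w) ∈ U ⊓ V :=
    ⟨π_ι_mem _ U hU w, by rw [← hvw]; exact π_ι_mem _ V hV v⟩
  obtain ⟨f, g, e, hfx⟩ := exists_basicOpen_le_affine_inter hU hV _ hx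
  obtain ⟨a, ha⟩ := (𝒮.toQCAlg.π_preimage _ (hU.basicOpen f)).le (show 𝒮.toQCAlg.ι U hU w ∈ _ from hfx)
  obtain ⟨b, hb⟩ := (𝒮.toQCAlg.π_preimage _ (hV.basicOpen g)).le
    (show 𝒮.toQCAlg.ι V hV v ∈ 𝒮.toQCAlg.π ⁻¹ᵁ Y.basicOpen g by
      rw [← e]; show 𝒮.toQCAlg.π _ ∈ Y.basicOpen f; rw [hvw]; exact hfx)
  have hwa : w = Spec.map (𝒮.presheaf.map (homOfLE (Y.basicOpen_le f)).op) a := by
    refine (𝒮.toQCAlg.ι U hU).isOpenEmbedding.injective (ha.symm.trans ?_)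
    rw [← Scheme.Hom.comp_apply, ι_basicOpen]
  have hvb : v = Spec.map (𝒮.presheaf.map (homOfLE (Y.basicOpen_le g)).op) b := by
    refine (𝒮.toQCAlg.ι V hV).isOpenEmbedding.injective (hb.symm.trans ?_)
    rw [← Scheme.Hom.comp_apply, ι_basicOpen]
  rw [hvb] at hv
  have hv' : b ∈ RelCone.vertexCompl (𝒮.deg (Y.basicOpen g) (hV.basicOpen g)) :=
    (vertexCompl_res 𝒮 V hV g b).1 hv
  rw [hwa]
  refine (vertexCompl_res 𝒮 U hU f a).2 ?_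
  have key : ∀ (W W' : Y.Opens) (hW : IsAffineOpen W) (hW' : IsAffineOpen W') (_ : W = W')
      (a : Spec (𝒮.presheaf.obj (op W))) (b : Spec (𝒮.presheaf.obj (op W'))),
      𝒮.toQCAlg.ι W hW a = 𝒮.toQCAlg.ι W' hW' b → b ∈ RelCone.vertexCompl (𝒮.deg W' hW') →
        a ∈ RelCone.vertexCompl (𝒮.deg W hW) := by
    intro W W' hW hW' eW a b hab hb
    subst eW
    rwa [(𝒮.toQCAlg.ι W hW).isOpenEmbedding.injective hab]
  exact key _ _ _ _ e a b (ha.trans (hvw.symm.trans hb.symm)) hv'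

variable {Y' : Scheme.{u}} (q : Y' ⟶ Y) (𝒮' : RelProj.QCGrAlg Y')
  (φ : ∀ (U : Y.Opens) (hU : IsAffineOpen U) (U' : Y'.Opens) (hU' : IsAffineOpen U') (_ : U' ≤ q ⁻¹ᵁ U),
      𝒮.deg U hU →+*ᵍ 𝒮'.deg U' hU')
  (Φ : 𝒮'.toQCAlg.spec ⟶ 𝒮.toQCAlg.spec)
  (hΦ : ∀ (U : Y.Opens) (hU : IsAffineOpen U) (U' : Y'.Opens) (hU' : IsAffineOpen U') (hle : U' ≤ q ⁻¹ᵁ U),
      𝒮'.toQCAlg.ι U' hU' ≫ Φ =
        Spec.map (CommRingCat.ofHom (φ U hU U' hU' hle).toRingHom) ≫ 𝒮.toQCAlg.ι U hU)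

lemma exists_chart_pair (x : 𝒮'.toQCAlg.spec) :
    ∃ (U : Y.Opens) (hU : IsAffineOpen U) (U' : Y'.Opens) (hU' : IsAffineOpen U') (_ : U' ≤ q ⁻¹ᵁ U)
      (w : Spec (𝒮'.presheaf.obj (op U'))), 𝒮'.toQCAlg.ι U' hU' w = x := by
  obtain ⟨U, hU, hxU, -⟩ :=
    exists_isAffineOpen_mem_and_subset (x := q (𝒮'.toQCAlg.π x)) (U := (⊤ : Y.Opens)) trivial
  obtain ⟨U', hU', hxU', hle⟩ :=
    exists_isAffineOpen_mem_and_subset (x := 𝒮'.toQCAlg.π x) (U := q ⁻¹ᵁ U) hxU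
  obtain ⟨w, hw⟩ := (𝒮'.toQCAlg.π_preimage U' hU').le (show x ∈ _ from hxU')
  exact ⟨U, hU, U', hU', hle, w, hw⟩

include hΦ in
lemma Φ_chart_mem_iff (U : Y.Opens) (hU : IsAffineOpen U) (U' : Y'.Opens) (hU' : IsAffineOpen U')
    (hle : U' ≤ q ⁻¹ᵁ U) (w : Spec (𝒮'.presheaf.obj (op U'))) :
    Φ (𝒮'.toQCAlg.ι U' hU' w) ∈ RelCone.pointedCone 𝒮 ↔
      ¬ ((𝒮.deg U hU)₊).toIdeal ≤ w.asIdeal.comap (φ U hU U' hU' hle).toRingHom := by
  rw [← Scheme.Hom.comp_apply, hΦ U hU U' hU' hle, Scheme.Hom.comp_apply]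
  refine (mem_pointedCone_iff 𝒮 U hU _).trans ?_
  rfl

lemma irrelevant_mapsTo {U : Y.Opens} {hU : IsAffineOpen U} {U' : Y'.Opens} {hU' : IsAffineOpen U'}
    (ψ : 𝒮.deg U hU →+*ᵍ 𝒮'.deg U' hU') {a : 𝒮.presheaf.obj (op U)} (ha : a ∈ (𝒮.deg U hU)₊) :
    ψ a ∈ (𝒮'.deg U' hU')₊ := by
  classical
  rw [HomogeneousIdeal.mem_irrelevant_iff] at ha ⊢
  rw [GradedRing.proj_apply, ← GradedRingHom.map_directSumDecompose (𝒮.deg U hU) _ ψ, ← GradedRing.proj_apply, ha,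
    map_zero]

include hΦ in
theorem preimage_pointedCone_le : Φ ⁻¹ᵁ RelCone.pointedCone 𝒮 ≤ RelCone.pointedCone 𝒮' := by
  intro x hx
  obtain ⟨U, hU, U', hU', hle, w, rfl⟩ := exists_chart_pair q 𝒮' x
  refine (mem_pointedCone_iff 𝒮' U' hU' w).2 fun hall => (Φ_chart_mem_iff 𝒮 q 𝒮' φ Φ hΦ U hU U' hU' hle w).1 hx ?_
  exact fun a ha => hall (irrelevant_mapsTo 𝒮 𝒮' _ ha)

include hΦ in
theorem preimage_pointedCone_eq_iff :
    (∀ (U : Y.Opens) (hU : IsAffineOpen U) (U' : Y'.Opens) (hU' : IsAffineOpen U') (hle : U' ≤ q ⁻¹ᵁ U),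
        RelCone.domOpen (φ U hU U' hU' hle) = ⊤) ↔
      Φ ⁻¹ᵁ RelCone.pointedCone 𝒮 = RelCone.pointedCone 𝒮' := by
  classical
  constructor
  · intro htop
    refine le_antisymm (preimage_pointedCone_le 𝒮 q 𝒮' φ Φ hΦ) fun x hx => ?_
    obtain ⟨U, hU, U', hU', hle, w, rfl⟩ := exists_chart_pair q 𝒮' x
    have hw := (mem_pointedCone_iff 𝒮' U' hU' w).1 hx
    refine (Φ_chart_mem_iff 𝒮 q 𝒮' φ Φ hΦ U hU U' hU' hle w).2 fun hall => ?_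
    let c := Ideal.homogeneousCore (𝒮'.deg U' hU') w.asIdeal
    have hc : ¬ (𝒮'.deg U' hU')₊ ≤ c := fun hle' =>
      hw fun a ha => Ideal.toIdeal_homogeneousCore_le _ _ (hle' ha)
    let y : Proj (𝒮'.deg U' hU') := ⟨c, w.2.homogeneousCore, hc⟩
    have hy : y ∈ RelCone.domOpen (φ U hU U' hU' hle) := by rw [htop]; trivial
    obtain ⟨f, hf, hfy⟩ := (RelCone.mem_domOpen _ _).1 hy
    apply hfy
    change φ U hU U' hU' hle f ∈ c.toIdeal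
    rw [← DirectSum.sum_support_decompose (𝒮.deg U hU) f, map_sum]
    refine Ideal.sum_mem _ fun n _ => ?_
    rcases Nat.eq_zero_or_pos n with rfl | hn
    · rw [← GradedRing.proj_apply, (HomogeneousIdeal.mem_irrelevant_iff _ _).mp hf, map_zero]
      exact Ideal.zero_mem _
    · exact Ideal.mem_homogeneousCore_of_homogeneous_of_mem ⟨n, (φ U hU U' hU' hle).2 (SetLike.coe_mem _)⟩
        (hall (HomogeneousIdeal.mem_irrelevant_of_mem _ hn (SetLike.coe_mem _)))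
  · intro heq U hU U' hU' hle
    refine eq_top_iff.2 fun y _ => ?_
    let w : Spec (𝒮'.presheaf.obj (op U')) := ⟨y.asHomogeneousIdeal.toIdeal, y.isPrime⟩
    have hw : w ∈ RelCone.vertexCompl (𝒮'.deg U' hU') := fun hall => y.not_irrelevant_le fun a ha => hall ha
    have h1 : Φ (𝒮'.toQCAlg.ι U' hU' w) ∈ RelCone.pointedCone 𝒮 :=
      heq.ge ((mem_pointedCone_iff 𝒮' U' hU' w).2 hw)
    obtain ⟨f, hf, hfw⟩ := SetLike.not_le_iff_exists.1 ((Φ_chart_mem_iff 𝒮 q 𝒮' φ Φ hΦ U hU U' hU' hle w).1 h1)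
    exact (RelCone.mem_domOpen _ _).2 ⟨f, hf, hfw⟩

end Groth.Agent.ConeLib
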